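import Cfsg.Agent.H65.Fi23Out.Step

/-!
An element of the point stabiliser that commutes with a fixed element of order thirteen and fixes a
point of the small suborbit is central in the stabiliser.
-/

set_option autoImplicit false

namespace Cfsg.Agent.H65.Fi23Out

open Cfsg.Spor Cfsg.Agent.H16 EnumData

/-- the word of order thirteen -/
def xW : List Nat := [6, 6, 1, 3, 7, 5, 8, 0, 3, 2, 4, 3]

theorem xW_ok : wordOk xW = true := by decide +kernel

/-- derivation steps for fixed points -/
inductive Op
  | x (i : Nat)
  | t (i v : Nat) (s : Spec)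
  | sig (z : Nat) (items : List (Nat × Spec))

/-- a point has the pattern of `z` -/
noncomputable def sameSig (z : Nat) (items : List (Nat × Spec)) (y : Nat) : Bool :=
  List.rec (motive := fun _ => Bool) true (fun it _ ih =>
    (bif Nat.beq (D.run it.2.word y) y then Nat.beq (D.run it.2.word z) z
      else !(Nat.beq (D.run it.2.word z) z)) && ih) items

theorem sameSig_of {z y : Nat} : ∀ {items : List (Nat × Spec)},
    (∀ it ∈ items, (D.run it.2.word y = y ↔ D.run it.2.word z = z)) → sameSig z items y = true
  | [], _ => rfl
  | it :: items, h => by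
    rw [List.forall_mem_cons] at h
    show ((bif Nat.beq (D.run it.2.word y) y then Nat.beq (D.run it.2.word z) z
      else !(Nat.beq (D.run it.2.word z) z)) && sameSig z items y) = true
    rw [sameSig_of h.2, Bool.and_true]
    cases hb : Nat.beq (D.run it.2.word y) y with
    | true =>
      rw [cond_true, h.1.1 (Nat.eq_of_beq_eq_true hb)]
      simp
    | false =>
      rw [cond_false, Bool.not_eq_true']
      refine Bool.eq_false_iff.2 fun e => ?_
      rw [h.1.2 (Nat.eq_of_beq_eq_true e)] at hb
      simp at hb

/-- one step is valid -/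
noncomputable def opOk (L : List Nat) (o : Op) : Bool :=
  match o with
  | .x i => Nat.ble (Nat.succ i) L.length
  | .t i v s => Nat.ble (Nat.succ i) L.length && (Nat.ble (Nat.succ v) L.length &&
      (s.ok && Nat.beq s.pt (L.getD i 0)))
  | .sig z items => Nat.ble (Nat.succ z) D.n && (Nat.beq (lab z) 2 &&
      (items.all (fun it => Nat.ble (Nat.succ it.1) L.length && (it.2.ok && Nat.beq it.2.pt (L.getD it.1 0))) &&
        allFrom (fun y => bif Nat.beq (lab y) 2 then (!(sameSig z items y) || Nat.beq y z) else true) D.n 0))

/-- the new point -/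
noncomputable def opNext (L : List Nat) (o : Op) : Nat :=
  match o with
  | .x i => D.run xW (L.getD i 0)
  | .t _ v s => D.run s.word (L.getD v 0)
  | .sig z _ => z

/-- all derived points, if the steps are valid -/
noncomputable def derive : List Op → List Nat → Option (List Nat)
  | [], L => some L
  | o :: os, L => bif opOk L o then derive os (L ++ [opNext L o]) else none

/-- a fixed point of `s` -/
def Fixed (s : Fi23) (i : Nat) : Prop := ∃ hi : i < D.n, img s ⟨i, hi⟩ = ⟨i, hi⟩

theorem Fixed.of_img {s : Fi23} {i : Fin D.n} (h : img s i = i) {m : Nat} (hm : (i : Nat) = m) :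
    Fixed s m := by
  subst hm
  exact ⟨i.2, h⟩

theorem getD_mem {L : List Nat} {i : Nat} (h : i < L.length) : L.getD i 0 ∈ L := by
  rw [List.getD_eq_getElem _ _ h]
  exact List.getElem_mem h

theorem img_comm {s x : Fi23} (h : Commute s x) {i : Fin D.n} (hi : img s i = i) :
    img s (img x i) = img x i := by
  rw [← img_mul, h.eq, img_mul, hi]

theorem derive_sound {s : Fi23} (hs : s ∈ Fi23H.sub) (hx : Commute s (el xW)) :
    ∀ (os : List Op) {L L' : List Nat}, derive os L = some L' → (∀ i ∈ L, Fixed s i) →
      ∀ i ∈ L', Fixed s i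
  | [], L, L', h, hL => by
    rw [derive, Option.some.injEq] at h
    exact h ▸ hL
  | o :: os, L, L', h, hL => by
    rw [derive] at h
    cases hok : opOk L o with
    | false => rw [hok] at h; exact absurd h (by simp)
    | true =>
      rw [hok] at h
      refine derive_sound hs hx os h fun i hi => ?_
      rcases List.mem_append.1 hi with hi | hi
      · exact hL i hi
      rw [List.mem_singleton.1 hi]
      clear h hi
      cases o with
      | x j =>
        obtain ⟨hj, hfix⟩ := hL _ (getD_mem (L := L) (i := j) (Nat.le_of_ble_eq_true hok))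
        exact Fixed.of_img (img_comm hx hfix) (img_el xW_ok ⟨_, hj⟩)
      | t j v sp =>
        simp only [opOk, Bool.and_eq_true] at hok
        obtain ⟨hj, hv, hsp, hpt⟩ := hok
        obtain ⟨hu, hfu⟩ := hL _ (getD_mem (L := L) (i := j) (Nat.le_of_ble_eq_true hj))
        obtain ⟨hv', hfv⟩ := hL _ (getD_mem (L := L) (i := v) (Nat.le_of_ble_eq_true hv))
        obtain ⟨hp, htau⟩ := Spec.isTau hsp
        have hc : Commute s (el sp.word) :=
          htau.comm_of_fix ((Fin.ext (Nat.eq_of_beq_eq_true hpt) :
            (⟨sp.pt, hp⟩ : Fin D.n) = ⟨_, hu⟩) ▸ hfu)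
        simp only [Spec.ok, Bool.and_eq_true] at hsp
        exact Fixed.of_img (img_comm hc hfv) (img_el hsp.2.2.1 ⟨_, hv'⟩)
      | sig z items =>
        simp only [opOk, Bool.and_eq_true, List.all_eq_true] at hok
        obtain ⟨hz, hlz, hitems, hu⟩ := hok
        have hz' : z < D.n := Nat.le_of_ble_eq_true hz
        show Fixed s z
        refine ⟨hz', ?_⟩
        have hsame : sameSig z items (img s ⟨z, hz'⟩ : Fin D.n) = true := by
          refine sameSig_of fun it hit => ?_
          obtain ⟨hi, hitok, hpt⟩ := hitems it hit
          obtain ⟨hu', hfu⟩ := hL _ (getD_mem (L := L) (i := it.1) (Nat.le_of_ble_eq_true hi))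
          obtain ⟨hp, htau⟩ := Spec.isTau hitok
          have hc : Commute s (el it.2.word) :=
            htau.comm_of_fix ((Fin.ext (Nat.eq_of_beq_eq_true hpt) :
              (⟨it.2.pt, hp⟩ : Fin D.n) = ⟨_, hu'⟩) ▸ hfu)
          simp only [Spec.ok, Bool.and_eq_true] at hitok
          rw [← img_el hitok.2.2.1, ← img_el hitok.2.2.1 ⟨z, hz'⟩, ← img_mul, ← hc.eq, img_mul]
          constructor
          · intro e
            exact congrArg Fin.val (img_inj s (Fin.ext e))
          · intro e
            exact congrArg (fun j => ((img s j : Fin D.n) : Nat)) (Fin.ext e : _ = (⟨z, hz'⟩ : Fin D.n))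
        have h1 := allFrom_spec hu (img s ⟨z, hz'⟩ : Fin D.n) (Nat.zero_le _) (by omega)
        rw [show lab (img s ⟨z, hz'⟩ : Fin D.n) = 2 from
          (lab_inv hs ⟨z, hz'⟩).trans (Nat.eq_of_beq_eq_true hlz), show Nat.beq 2 2 = true from rfl,
          cond_true, hsame] at h1
        exact Fin.ext (Nat.eq_of_beq_eq_true (by simpa using h1))

/-- an earlier representative or all generator points are reached -/
noncomputable def closes (prev L : List Nat) : Bool :=
  (prev.any fun r => L.any fun i => Nat.beq i r) ||
    allFrom (fun k => L.any fun i => Nat.beq i (gp k)) 9 0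

/-- the rows are valid, each reducing to earlier ones -/
noncomputable def rowOk (prev : List Nat) (row : Nat × List Op) : Bool :=
  match derive row.2 [row.1] with
  | none => false
  | some L => closes prev L

theorem central_of_fix_gens {s : Fi23} (hs : s ∈ Fi23H.sub) (h : ∀ k, k < 9 → Fixed s (gp k)) :
    s = 1 ∨ s = t0 := by
  have hc : (⟨s, hs⟩ : Fi23H.sub) ∈ Subgroup.center Fi23H.sub := by
    rw [Subgroup.mem_center_iff]
    intro g
    have hg : g ∈ Subgroup.closure (Set.range fun j : Fin 9 => Fi23Double.gh j) := by
      rw [Fi23Double.closure_gh]; trivial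
    induction hg using Subgroup.closure_induction with
    | mem y hy =>
      obtain ⟨j, rfl⟩ := hy
      obtain ⟨hi, hf⟩ := h j j.2
      have h1 := (isTau_gen (show (j : Nat) < 10 by omega)).comm_of_fix hf
      apply Subtype.ext
      simpa [Fi23Double.gh, j.2] using h1.eq.symm
    | one => simp
    | mul a b _ _ ha hb => rw [mul_assoc, hb, ← mul_assoc, ha, mul_assoc]
    | inv a _ ha => exact (Commute.inv_left (show Commute a ⟨s, hs⟩ from ha)).eq
  rw [Fi23Double.center_eq] at hc
  obtain ⟨m, hm⟩ := hc
  replace hm : Fi23Double.zz ^ m = (⟨s, hs⟩ : Fi23H.sub) := hm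
  rcases Int.even_or_odd m with ⟨k, rfl⟩ | ⟨k, rfl⟩
  · left
    rw [← two_mul, zpow_mul, zpow_two, Fi23Double.zz_sq, one_zpow] at hm
    exact (congrArg Subtype.val hm).symm
  · right
    rw [zpow_add, zpow_mul, zpow_two, Fi23Double.zz_sq, one_zpow, one_mul, zpow_one] at hm
    rw [← t0_eq]
    exact (congrArg Subtype.val hm).symm

theorem row_sound {s : Fi23} (hs : s ∈ Fi23H.sub) (hx : Commute s (el xW)) (rows : List (Nat × List Op))
    (hrows : ∀ k, (hk : k < rows.length) → rowOk ((rows.take k).map Prod.fst) rows[k] = true) :
    ∀ k, (hk : k < rows.length) → Fixed s rows[k].1 → s = 1 ∨ s = t0 := by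
  intro k
  induction k using Nat.strong_induction_on with
  | _ k IH =>
    intro hk hf
    have h := hrows k hk
    unfold rowOk at h
    split at h
    · exact absurd h (by simp)
    · next L hL =>
      have hfix := derive_sound hs hx _ hL (by simpa using hf)
      simp only [closes, Bool.or_eq_true, List.any_eq_true] at h
      rcases h with ⟨r, hr, i, hi, hir⟩ | h
      · rw [Nat.eq_of_beq_eq_true hir] at hi
        simp only [List.mem_map] at hr
        obtain ⟨row, hrow, rfl⟩ := hr
        obtain ⟨j, hj, rfl⟩ := List.mem_take_iff_getElem.1 hrow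
        exact IH j (by omega) (by omega) (hfix _ hi)
      · refine central_of_fix_gens hs fun k hk => ?_
        have h1 := allFrom_spec h k (Nat.zero_le _) (by omega)
        simp only [List.any_eq_true] at h1
        obtain ⟨i, hi, he⟩ := h1
        exact Nat.eq_of_beq_eq_true he ▸ hfix i hi

/-- `y` leads to its representative under the element of order thirteen -/
noncomputable def coverOk (info : Nat → Nat) (reps : Nat → Nat) (m : Nat) (y : Nat) : Bool :=
  bif Nat.beq (lab y) 2 then
    forceNat (info y) fun i =>
      Nat.ble (Nat.succ (bitField i 4 9)) m &&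
        Nat.beq (D.run (List.replicate (bitField i 0 4) xW).flatten y) (reps (bitField i 4 9))
  else true

theorem cover_sound {s : Fi23} (hx : Commute s (el xW)) {info reps : Nat → Nat} {m : Nat} {y : Fin D.n}
    (hl : lab y = 2) (hok : coverOk info reps m y = true) (hy : img s y = y) :
    ∃ i < m, Fixed s (reps i) := by
  simp only [coverOk, hl, forceNat_eq, show Nat.beq 2 2 = true from rfl, cond_true,
    Bool.and_eq_true] at hok
  obtain ⟨hi, hrun⟩ := hok
  refine ⟨_, Nat.le_of_ble_eq_true hi, ?_⟩
  rw [← Nat.eq_of_beq_eq_true hrun]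
  generalize bitField (info y) 0 4 = j
  induction j with
  | zero => exact ⟨y.2, hy⟩
  | succ j ih =>
    obtain ⟨hlt, hf⟩ := ih
    have hrun' : D.run (List.replicate (j + 1) xW).flatten y =
        D.run xW (D.run (List.replicate j xW).flatten y) := by
      have key : ∀ (u v : List Nat) (i : Nat), D.run (u ++ v) i = D.run v (D.run u i) := by
        intro u
        induction u with
        | nil => intro v i; rfl
        | cons a u ihu => intro v i; rw [List.cons_append, run_cons, run_cons, ihu]
      rw [List.replicate_succ', List.flatten_append, key]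
      simp
    have e := img_el xW_ok ⟨_, hlt⟩
    exact Fixed.of_img (img_comm hx hf) (e.trans hrun'.symm)

end Cfsg.Agent.H65.Fi23Out
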