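import Mathlib.GroupTheory.Perm.Cycle.Type
import Cfsg.Agent.H65.Fi23Out.Fixed

/-! An automorphism takes transpositions to transpositions, given the fixed-point certificates. -/

set_option autoImplicit false

namespace Cfsg.Agent.H65.Fi23Out

open Cfsg.Spor Cfsg.Agent.H16 EnumData

/-- the small suborbit -/
abbrev APt : Type := {i : Fin D.n // lab i = 2}

/-- the action on the small suborbit -/
noncomputable def onA : Fi23H.sub →* Equiv.Perm APt where
  toFun h := (M.rho (h : Fi23)).subtypePerm fun i => by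
    show lab (img (h : Fi23) i : Fin D.n) = 2 ↔ _
    rw [lab_inv h.2]
  map_one' := by ext i; simp
  map_mul' a b := by
    refine Equiv.ext fun i => Subtype.ext ?_
    show M.rho ((a * b : Fi23H.sub) : Fi23) (i : Fin D.n) = M.rho (a : Fi23) (M.rho (b : Fi23) (i : Fin D.n))
    rw [Subgroup.coe_mul, map_mul]
    rfl

theorem onA_apply (h : Fi23H.sub) (i : APt) : ((onA h i : APt) : Fin D.n) = img (h : Fi23) i := rfl

theorem card_fin_filter {p : Nat → Bool} :
    Fintype.card {i : Fin D.n // p i = true} = countFrom p D.n 0 := by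
  rw [countFrom_spec, Fintype.card_subtype]
  refine Finset.card_bij (fun i _ => (i : Nat)) ?_ ?_ ?_
  · intro i hi
    simp only [Finset.mem_filter, Finset.mem_univ, true_and] at hi
    simp only [Finset.mem_filter, Finset.mem_Ico, Nat.zero_add]
    exact ⟨⟨Nat.zero_le _, i.2⟩, hi⟩
  · intro i _ j _ h; exact Fin.ext h
  · intro b hb
    simp only [Finset.mem_filter, Finset.mem_Ico, Nat.zero_add] at hb
    exact ⟨⟨b, hb.1.2⟩, by simp [hb.2], rfl⟩

theorem card_APt : Fintype.card APt = 3510 := by
  refine Eq.trans ?_ (card_fin_filter.trans Fi23H.count_2)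
  refine Fintype.card_congr (Equiv.subtypeEquivRight fun i => ?_)
  show lab i = 2 ↔ Nat.beq (lab i) 2 = true
  exact ⟨fun e => by rw [e]; rfl, Nat.eq_of_beq_eq_true⟩

/-- fixed points of a generator on the small suborbit -/
noncomputable def genFix (k i : Nat) : Bool := Nat.beq (lab i) 2 && Nat.beq (D.act i k) i

theorem sign_involution {α : Type*} [Fintype α] [DecidableEq α] {g : Equiv.Perm α} (h : g ^ 2 = 1) :
    Equiv.Perm.sign g = (-1) ^ (g.support.card / 2) ∧ 2 ∣ g.support.card := by
  obtain ⟨m, hm⟩ : ∃ m : ℕ, g.cycleType = Multiset.replicate m 2 := by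
    refine ⟨g.cycleType.card, Multiset.eq_replicate_card.2 fun x hx => ?_⟩
    have h2 : x ∣ 2 := (Equiv.Perm.dvd_of_mem_cycleType hx).trans (orderOf_dvd_of_pow_eq_one h)
    have := Equiv.Perm.two_le_of_mem_cycleType hx
    have := Nat.le_of_dvd (by norm_num) h2
    omega
  have hs : g.support.card = 2 * m := by
    rw [← Equiv.Perm.sum_cycleType, hm, Multiset.sum_replicate, smul_eq_mul, mul_comm]
  refine ⟨?_, hs ▸ dvd_mul_right 2 m⟩
  rw [Equiv.Perm.sign_of_cycleType, hm, Multiset.sum_replicate, Multiset.card_replicate, hs,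
    smul_eq_mul, pow_add, mul_comm m 2, pow_mul, neg_one_sq, one_pow, one_mul,
    Nat.mul_div_cancel_left m (by norm_num)]

theorem sign_gen (hcnt : ∀ k, k < 9 → countFrom (genFix k) D.n 0 = 694) (j : Fin 9) :
    Equiv.Perm.sign (onA (Fi23Double.gh j)) = 1 := by
  classical
  have hsq : onA (Fi23Double.gh j) ^ 2 = 1 := by
    rw [← map_pow, sq, Fi23Double.gh_sq, map_one]
  have hfix : Fintype.card {i : APt // onA (Fi23Double.gh j) i = i} = 694 := by
    refine Eq.trans (Fintype.card_congr ?_) (card_fin_filter.trans (hcnt j j.2))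
    refine (Equiv.subtypeSubtypeEquivSubtypeExists _ _).trans (Equiv.subtypeEquivRight fun i => ?_)
    have hw : wordOk [(j : Nat)] = true := by simp [wordOk, Nat.ble_eq]; omega
    have e : ((img ((Fi23Double.gh j : Fi23H.sub) : Fi23) i : Fin D.n) : Nat) = D.act i j := by
      rw [show ((Fi23Double.gh j : Fi23H.sub) : Fi23) = el [(j : Nat)] by
        simp [el_single, Fi23Double.gh, j.2], img_el hw, run_cons]
      rfl
    constructor
    · rintro ⟨hl, hf⟩
      have h1 : img ((Fi23Double.gh j : Fi23H.sub) : Fi23) i = i := by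
        rw [← onA_apply _ ⟨i, hl⟩, hf]
      simp only [genFix, Bool.and_eq_true]
      exact ⟨by rw [hl]; rfl, by rw [← e, h1]; simp⟩
    · intro hp
      simp only [genFix, Bool.and_eq_true] at hp
      refine ⟨Nat.eq_of_beq_eq_true hp.1, Subtype.ext (Fin.ext ?_)⟩
      rw [onA_apply, e]
      exact Nat.eq_of_beq_eq_true hp.2
  have hsupp : (onA (Fi23Double.gh j)).support.card = 2816 := by
    have h1 := Fintype.card_subtype_compl (fun i : APt => onA (Fi23Double.gh j) i = i)
    rw [hfix, card_APt] at h1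
    rw [show (3510 : ℕ) - 694 = 2816 from rfl] at h1
    rw [← h1, Fintype.card_subtype]
    congr 1
  rw [(sign_involution hsq).1, hsupp]
  norm_num

theorem exists_fix_A (hcnt : ∀ k, k < 9 → countFrom (genFix k) D.n 0 = 694) {s : Fi23}
    (hs : s ∈ Fi23H.sub) (h2 : s * s = 1) : ∃ y : Fin D.n, lab y = 2 ∧ img s y = y := by
  classical
  by_contra hno
  simp only [not_exists, not_and] at hno
  set g : Fi23H.sub := ⟨s, hs⟩
  have hsign : Equiv.Perm.sign (onA g) = 1 := by
    have hg : g ∈ Subgroup.closure (Set.range fun j : Fin 9 => Fi23Double.gh j) := by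
      rw [Fi23Double.closure_gh]; trivial
    have key : ∀ h : Fi23H.sub, h ∈ Subgroup.closure (Set.range fun j : Fin 9 => Fi23Double.gh j) →
        Equiv.Perm.sign (onA h) = 1 := by
      intro h hh
      induction hh using Subgroup.closure_induction with
      | mem y hy => obtain ⟨j, rfl⟩ := hy; exact sign_gen hcnt j
      | one => rw [map_one, map_one]
      | mul a b _ _ ha hb => rw [map_mul, map_mul, ha, hb, one_mul]
      | inv a _ ha => rw [map_inv, map_inv, ha, inv_one]
    exact key g hg
  have hsq : onA g ^ 2 = 1 := by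
    rw [← map_pow, sq, show g * g = 1 from Subtype.ext h2, map_one]
  have hsupp : (onA g).support = Finset.univ := by
    refine Finset.eq_univ_of_forall fun i => Equiv.Perm.mem_support.2 fun e => ?_
    exact hno i i.2 (by rw [← onA_apply g i, e])
  rw [(sign_involution hsq).1, hsupp, Finset.card_univ, card_APt] at hsign
  norm_num at hsign

theorem not_dvd_thirteen : ¬ 13 ∣ 4089470473293004800 / 13 := by decide +kernel

theorem factorization_thirteen : (Nat.card Fi23).factorization 13 = 1 := by
  rw [Fi23Order.card_and_faithful.1,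
    show (4089470473293004800 : ℕ) = 13 * (4089470473293004800 / 13) by norm_num,
    Nat.factorization_mul (by norm_num) (by norm_num), Finsupp.add_apply,
    Nat.Prime.factorization_self (by norm_num), Nat.factorization_eq_zero_of_not_dvd not_dvd_thirteen]

/-- the fixed points of the element of order thirteen -/
theorem fix_xW (h : ∀ i, i < D.n → (!(Nat.beq (D.run xW i) i) || (Nat.beq i 0 || (Nat.beq i 1 || Nat.beq i 7999))) = true)
    {i : Fin D.n} (hi : img (el xW) i = i) : (i : Nat) = 0 ∨ (i : Nat) = 1 ∨ (i : Nat) = 7999 := by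
  have h1 := h i i.2
  have h2 : D.run xW i = (i : Nat) := by rw [← img_el xW_ok, hi]
  rw [h2] at h1
  simpa [Nat.beq_eq] using h1

theorem orderOf_xW : orderOf (el xW) = 13 := by
  have : Fact (Nat.Prime 13) := ⟨by norm_num⟩
  refine orderOf_eq_prime ?_ fun e => ?_
  · exact Fi23Double.el_pow xW (wordOk_spec xW_ok) 13 (by decide +kernel)
  · have h1 : img (el xW) ⟨11589, by rw [n_eq]; norm_num⟩ = ⟨11589, by rw [n_eq]; norm_num⟩ := by
      rw [e, img_one]
    have h2 := congrArg Fin.val h1
    rw [img_el xW_ok] at h2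
    exact absurd h2 (by decide +kernel)

/-- the certificates for the classification of involutions commuting with an element of order 13 -/
structure ClassCert where
  /-- fixed points of generators on the suborbit -/
  cnt : ∀ k, k < 9 → countFrom (genFix k) D.n 0 = 694
  /-- the fixed points of the element of order thirteen -/
  fix : ∀ i, i < D.n → (!(Nat.beq (D.run xW i) i) || (Nat.beq i 0 || (Nat.beq i 1 || Nat.beq i 7999))) = true
  /-- rows -/
  rows : List (Nat × List Op)
  /-- where a point goes -/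
  info : Nat → Nat
  /-- the rows are valid -/
  rows_ok : ∀ k, (hk : k < rows.length) → rowOk ((rows.take k).map Prod.fst) rows[k] = true
  /-- every point leads to a row -/
  cover : ∀ y, y < D.n → coverOk info (fun i => (rows.getD i (0, [])).1) rows.length y = true
  /-- transpositions of two fixed points -/
  s1 : Spec
  /-- the third one -/
  s9 : Spec
  /-- they behave as claimed -/
  swap : (s1.ok && (s9.ok && (Nat.beq (D.run s1.word 7999) 0 && (Nat.beq (D.run s9.word 1) 0 &&
    (eqW (xW ++ s1.word) (s1.word ++ xW) && eqW (xW ++ s9.word) (s9.word ++ xW)))))) = true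

variable (C : ClassCert)

include C in
theorem mem_sub_case {s : Fi23} (hs : s ∈ Fi23H.sub) (h2 : s * s = 1) (hx : Commute s (el xW))
    (hne : s ≠ 1) : s = t0 := by
  obtain ⟨y, hl, hy⟩ := exists_fix_A C.cnt hs h2
  obtain ⟨i, hi, hf⟩ := cover_sound hx hl (C.cover y y.2) hy
  rw [List.getD_eq_getElem _ _ hi] at hf
  exact (row_sound hs hx C.rows C.rows_ok i hi hf).resolve_left hne

include C in
theorem tau_of_comm_xW {s : Fi23} (h2 : s * s = 1) (hne : s ≠ 1) (hx : Commute s (el xW)) :
    ∃ y, IsTau y s := by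
  have hsw := C.swap
  simp only [Bool.and_eq_true] at hsw
  obtain ⟨h1ok, h9ok, h1, h9, e1, e9⟩ := hsw
  have key : ∀ (r : Spec) (p : Fin D.n), r.ok = true → D.run r.word p = 0 →
      Commute (el r.word) (el xW) → img s p = p → ∃ y, IsTau y s := by
    intro r p hr hrp hcx hsp
    simp only [Spec.ok, Bool.and_eq_true] at hr
    set g := el r.word
    have hgp : img g p = pt0 := Fin.ext (by rw [img_el hr.2.2.1, hrp]; rfl)
    have hmem : g * s * g⁻¹ ∈ Fi23H.sub := (fix_iff_mem _).1 (by
      rw [← hgp, img_mul, img_mul, img_inv, hsp])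
    have e := mem_sub_case C hmem (by
        calc g * s * g⁻¹ * (g * s * g⁻¹) = g * (s * s) * g⁻¹ := by group
          _ = 1 := by rw [h2]; group)
      ((hcx.mul_left hx).mul_left hcx.inv_left) (fun e => hne (conj_eq_one_iff.1 e))
    refine ⟨img g⁻¹ pt0, ?_⟩
    have h := isTau_zero.move g⁻¹
    rw [← e, inv_inv] at h
    rwa [show g⁻¹ * (g * s * g⁻¹) * g = s by group] at h
  have hF : ∀ p : Fin D.n, img (el xW) p = p → img (el xW) (img s p) = img s p :=
    fun p hp => img_comm hx.symm hp
  set q0 : Fin D.n := pt0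
  set q1 : Fin D.n := ⟨1, by rw [n_eq]; norm_num⟩
  set q9 : Fin D.n := ⟨7999, by rw [n_eq]; norm_num⟩
  have hfx : ∀ p ∈ [q0, q1, q9], img (el xW) p = p := by
    intro p hp
    refine Fin.ext ?_
    rw [img_el xW_ok]
    simp only [List.mem_cons, List.not_mem_nil, or_false] at hp
    rcases hp with rfl | rfl | rfl
    · show D.run xW 0 = 0; decide +kernel
    · show D.run xW 1 = 1; decide +kernel
    · show D.run xW 7999 = 7999; decide +kernel
  have hc1 : Commute (el C.s1.word) (el xW) := by
    have := eqW_spec e1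
    rw [el_append, el_append] at this
    exact this
  have hc9 : Commute (el C.s9.word) (el xW) := by
    have := eqW_spec e9
    rw [el_append, el_append] at this
    exact this
  have hinv : ∀ p, img s (img s p) = p := fun p => by rw [← img_mul, h2, img_one]
  by_cases h0 : img s q0 = q0
  · exact ⟨_, (mem_sub_case C ((fix_iff_mem _).1 h0) h2 hx hne).symm ▸ isTau_zero⟩
  · rcases fix_xW C.fix (hF q0 (hfx q0 (by simp))) with e | e | e
    · exact absurd (Fin.ext e) h0
    · have e' : img s q0 = q1 := Fin.ext e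
      refine key C.s1 q9 h1ok (Nat.eq_of_beq_eq_true h1) hc1 ?_
      rcases fix_xW C.fix (hF q9 (hfx q9 (by simp))) with f | f | f
      · have : q9 = q1 := by rw [← e', ← show img s q9 = q0 from Fin.ext f, hinv]
        simp [q9, q1] at this
      · have : q9 = q0 := img_inj s ((show img s q9 = q1 from Fin.ext f).trans e'.symm)
        simp [q9, q0, pt0] at this
      · exact Fin.ext f
    · have e' : img s q0 = q9 := Fin.ext e
      refine key C.s9 q1 h9ok (Nat.eq_of_beq_eq_true h9) hc9 ?_
      rcases fix_xW C.fix (hF q1 (hfx q1 (by simp))) with f | f | f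
      · have : q1 = q9 := by rw [← e', ← show img s q1 = q0 from Fin.ext f, hinv]
        simp [q9, q1] at this
      · exact Fin.ext f
      · have : q1 = q0 := img_inj s ((show img s q1 = q9 from Fin.ext f).trans e'.symm)
        simp [q1, q0, pt0] at this

theorem orderOf_xW_mem : el xW ∈ Fi23H.sub := by
  refine (fix_iff_mem _).1 (Fin.ext ?_)
  rw [img_el xW_ok]
  show D.run xW 0 = 0
  decide +kernel

include C in
theorem aut_tau (φ : MulAut Fi23) {y : Fin D.n} {s : Fi23} (h : IsTau y s) :
    ∃ z, IsTau z (φ s) := by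
  obtain ⟨g, -, rfl⟩ := h
  suffices h : ∃ z, IsTau z (φ t0) by
    obtain ⟨z, hz⟩ := h
    exact ⟨_, by simpa using hz.move (φ g)⟩
  have hp : Fact (Nat.Prime 13) := ⟨by norm_num⟩
  set x := el xW
  have hcx : Commute (φ x) (φ t0) := (t0_comm orderOf_xW_mem).map φ.toMonoidHom
  have ho : orderOf (φ x) = 13 := by rw [MulEquiv.orderOf_eq, orderOf_xW]
  let P : Sylow 13 Fi23 := Sylow.ofCard (Subgroup.zpowers (φ x))
    (by rw [Nat.card_zpowers, ho, factorization_thirteen, pow_one])
  let Q : Sylow 13 Fi23 := Sylow.ofCard (Subgroup.zpowers x)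
    (by rw [Nat.card_zpowers, orderOf_xW, factorization_thirteen, pow_one])
  obtain ⟨c, hc⟩ := MulAction.exists_smul_eq Fi23 P Q
  have hmem : c * φ x * c⁻¹ ∈ Subgroup.zpowers x := by
    have h1 : MulAut.conj c • φ x ∈ (c • P : Sylow 13 Fi23) :=
      Subgroup.smul_mem_pointwise_smul _ (MulAut.conj c) _ (Subgroup.mem_zpowers _)
    rw [hc] at h1
    exact h1
  have heq : Subgroup.zpowers (c * φ x * c⁻¹) = Subgroup.zpowers x := by
    refine Subgroup.eq_of_le_of_card_ge (Subgroup.zpowers_le.2 hmem) (le_of_eq ?_)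
    rw [Nat.card_zpowers, Nat.card_zpowers, ← MulAut.conj_apply, MulEquiv.orderOf_eq, ho, orderOf_xW]
  have hxm : x ∈ Subgroup.zpowers (c * φ x * c⁻¹) := heq ▸ Subgroup.mem_zpowers x
  obtain ⟨m, hm⟩ := Subgroup.mem_zpowers_iff.1 hxm
  set s := c * φ t0 * c⁻¹
  have hs2 : s * s = 1 := by
    show c * φ t0 * c⁻¹ * (c * φ t0 * c⁻¹) = 1
    calc c * φ t0 * c⁻¹ * (c * φ t0 * c⁻¹) = c * φ (t0 * t0) * c⁻¹ := by rw [map_mul]; group
      _ = 1 := by rw [t0_sq, map_one]; group
  have hs1 : s ≠ 1 := fun e =>
    isTau_zero.ne_one (φ.injective (by rw [conj_eq_one_iff.1 e, map_one]))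
  have hsx : Commute s x := by
    rw [← hm]
    exact ((hcx.symm.map (MulAut.conj c).toMonoidHom)).zpow_right m
  obtain ⟨z, hz⟩ := tau_of_comm_xW C hs2 hs1 hsx
  refine ⟨img c⁻¹ z, ?_⟩
  have h1 := hz.move c⁻¹
  rwa [show c⁻¹ * s * c⁻¹⁻¹ = φ t0 by simp [s, mul_assoc]] at h1

end Cfsg.Agent.H65.Fi23Out
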