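import Cfsg.Agent.H65.Fi23Out.FixedData
import Cfsg.Agent.H65.Fi23Out.Class

/-! Kernel checks of the fixed point certificates. -/

set_option autoImplicit false
set_option maxRecDepth 20000

namespace Cfsg.Agent.H65.Fi23Out

open Cfsg.Agent.H16

/-- check of row `k` -/
noncomputable def rowCheck (k : Nat) : Bool :=
  match allRows[k]? with
  | none => false
  | some row => rowOk ((allRows.take k).map Prod.fst) row

theorem row_0 : allFrom rowCheck 15 0 = true := by decide +kernel

theorem row_15 : allFrom rowCheck 15 15 = true := by decide +kernel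

theorem row_30 : allFrom rowCheck 15 30 = true := by decide +kernel

theorem row_45 : allFrom rowCheck 15 45 = true := by decide +kernel

theorem row_60 : allFrom rowCheck 15 60 = true := by decide +kernel

theorem row_75 : allFrom rowCheck 15 75 = true := by decide +kernel

theorem row_90 : allFrom rowCheck 15 90 = true := by decide +kernel

theorem row_105 : allFrom rowCheck 15 105 = true := by decide +kernel

theorem row_120 : allFrom rowCheck 15 120 = true := by decide +kernel

theorem row_135 : allFrom rowCheck 15 135 = true := by decide +kernel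

theorem row_150 : allFrom rowCheck 15 150 = true := by decide +kernel

theorem row_165 : allFrom rowCheck 15 165 = true := by decide +kernel

theorem row_180 : allFrom rowCheck 15 180 = true := by decide +kernel

theorem row_195 : allFrom rowCheck 15 195 = true := by decide +kernel

theorem row_210 : allFrom rowCheck 15 210 = true := by decide +kernel

theorem row_225 : allFrom rowCheck 15 225 = true := by decide +kernel

theorem row_240 : allFrom rowCheck 15 240 = true := by decide +kernel

theorem row_255 : allFrom rowCheck 15 255 = true := by decide +kernel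

theorem rowCheck_all : ∀ k, k < 270 → rowCheck k = true :=
  (allFrom_extend (allFrom_extend (allFrom_extend (allFrom_extend (allFrom_extend (allFrom_extend (allFrom_extend (allFrom_extend (allFrom_extend (allFrom_extend (allFrom_extend (allFrom_extend (allFrom_extend (allFrom_extend (allFrom_extend (allFrom_extend (allFrom_extend (allFrom_extend allFrom_nil row_0) row_15) row_30) row_45) row_60) row_75) row_90) row_105) row_120) row_135) row_150) row_165) row_180) row_195) row_210) row_225) row_240) row_255)

theorem cover_0 : allFrom (coverOk coverInfo (fun i => (allRows.getD i (0, [])).1) 270) 4000 0 = true := by decide +kernel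

theorem cover_4000 : allFrom (coverOk coverInfo (fun i => (allRows.getD i (0, [])).1) 270) 4000 4000 = true := by decide +kernel

theorem cover_8000 : allFrom (coverOk coverInfo (fun i => (allRows.getD i (0, [])).1) 270) 4000 8000 = true := by decide +kernel

theorem cover_12000 : allFrom (coverOk coverInfo (fun i => (allRows.getD i (0, [])).1) 270) 4000 12000 = true := by decide +kernel

theorem cover_16000 : allFrom (coverOk coverInfo (fun i => (allRows.getD i (0, [])).1) 270) 4000 16000 = true := by decide +kernel

theorem cover_20000 : allFrom (coverOk coverInfo (fun i => (allRows.getD i (0, [])).1) 270) 4000 20000 = true := by decide +kernel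

theorem cover_24000 : allFrom (coverOk coverInfo (fun i => (allRows.getD i (0, [])).1) 270) 4000 24000 = true := by decide +kernel

theorem cover_28000 : allFrom (coverOk coverInfo (fun i => (allRows.getD i (0, [])).1) 270) 3671 28000 = true := by decide +kernel

theorem cover_all : ∀ y, y < D.n → coverOk coverInfo (fun i => (allRows.getD i (0, [])).1) 270 y = true :=
  (allFrom_extend (allFrom_extend (allFrom_extend (allFrom_extend (allFrom_extend (allFrom_extend (allFrom_extend (allFrom_extend allFrom_nil cover_0) cover_4000) cover_8000) cover_12000) cover_16000) cover_20000) cover_24000) cover_28000)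

theorem fix_0 : allFrom (fun i => !(Nat.beq (D.run xW i) i) || (Nat.beq i 0 || (Nat.beq i 1 || Nat.beq i 7999))) 8000 0 = true := by decide +kernel

theorem fix_8000 : allFrom (fun i => !(Nat.beq (D.run xW i) i) || (Nat.beq i 0 || (Nat.beq i 1 || Nat.beq i 7999))) 8000 8000 = true := by decide +kernel

theorem fix_16000 : allFrom (fun i => !(Nat.beq (D.run xW i) i) || (Nat.beq i 0 || (Nat.beq i 1 || Nat.beq i 7999))) 8000 16000 = true := by decide +kernel

theorem fix_24000 : allFrom (fun i => !(Nat.beq (D.run xW i) i) || (Nat.beq i 0 || (Nat.beq i 1 || Nat.beq i 7999))) 7671 24000 = true := by decide +kernel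

theorem fix_all : ∀ i, i < D.n → (!(Nat.beq (D.run xW i) i) || (Nat.beq i 0 || (Nat.beq i 1 || Nat.beq i 7999))) = true :=
  (allFrom_extend (allFrom_extend (allFrom_extend (allFrom_extend allFrom_nil fix_0) fix_8000) fix_16000) fix_24000)

theorem cnt_0 : countFrom (genFix 0) D.n 0 = 694 := by
  rw [show D.n = 8000 + (8000 + (8000 + 7671)) from rfl, Fi23H.countFrom_add, Fi23H.countFrom_add, Fi23H.countFrom_add]
  rw [show countFrom (genFix 0) 8000 (0) = 552 by decide +kernel]
  rw [show countFrom (genFix 0) 8000 (0 + 8000) = 140 by decide +kernel]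
  rw [show countFrom (genFix 0) 8000 (0 + 8000 + 8000) = 2 by decide +kernel]
  rw [show countFrom (genFix 0) 7671 (0 + 8000 + 8000 + 8000) = 0 by decide +kernel]

theorem cnt_1 : countFrom (genFix 1) D.n 0 = 694 := by
  rw [show D.n = 8000 + (8000 + (8000 + 7671)) from rfl, Fi23H.countFrom_add, Fi23H.countFrom_add, Fi23H.countFrom_add]
  rw [show countFrom (genFix 1) 8000 (0) = 473 by decide +kernel]
  rw [show countFrom (genFix 1) 8000 (0 + 8000) = 200 by decide +kernel]
  rw [show countFrom (genFix 1) 8000 (0 + 8000 + 8000) = 21 by decide +kernel]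
  rw [show countFrom (genFix 1) 7671 (0 + 8000 + 8000 + 8000) = 0 by decide +kernel]

theorem cnt_2 : countFrom (genFix 2) D.n 0 = 694 := by
  rw [show D.n = 8000 + (8000 + (8000 + 7671)) from rfl, Fi23H.countFrom_add, Fi23H.countFrom_add, Fi23H.countFrom_add]
  rw [show countFrom (genFix 2) 8000 (0) = 449 by decide +kernel]
  rw [show countFrom (genFix 2) 8000 (0 + 8000) = 209 by decide +kernel]
  rw [show countFrom (genFix 2) 8000 (0 + 8000 + 8000) = 36 by decide +kernel]
  rw [show countFrom (genFix 2) 7671 (0 + 8000 + 8000 + 8000) = 0 by decide +kernel]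

theorem cnt_3 : countFrom (genFix 3) D.n 0 = 694 := by
  rw [show D.n = 8000 + (8000 + (8000 + 7671)) from rfl, Fi23H.countFrom_add, Fi23H.countFrom_add, Fi23H.countFrom_add]
  rw [show countFrom (genFix 3) 8000 (0) = 471 by decide +kernel]
  rw [show countFrom (genFix 3) 8000 (0 + 8000) = 142 by decide +kernel]
  rw [show countFrom (genFix 3) 8000 (0 + 8000 + 8000) = 81 by decide +kernel]
  rw [show countFrom (genFix 3) 7671 (0 + 8000 + 8000 + 8000) = 0 by decide +kernel]

theorem cnt_4 : countFrom (genFix 4) D.n 0 = 694 := by
  rw [show D.n = 8000 + (8000 + (8000 + 7671)) from rfl, Fi23H.countFrom_add, Fi23H.countFrom_add, Fi23H.countFrom_add]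
  rw [show countFrom (genFix 4) 8000 (0) = 453 by decide +kernel]
  rw [show countFrom (genFix 4) 8000 (0 + 8000) = 203 by decide +kernel]
  rw [show countFrom (genFix 4) 8000 (0 + 8000 + 8000) = 38 by decide +kernel]
  rw [show countFrom (genFix 4) 7671 (0 + 8000 + 8000 + 8000) = 0 by decide +kernel]

theorem cnt_5 : countFrom (genFix 5) D.n 0 = 694 := by
  rw [show D.n = 8000 + (8000 + (8000 + 7671)) from rfl, Fi23H.countFrom_add, Fi23H.countFrom_add, Fi23H.countFrom_add]
  rw [show countFrom (genFix 5) 8000 (0) = 502 by decide +kernel]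
  rw [show countFrom (genFix 5) 8000 (0 + 8000) = 173 by decide +kernel]
  rw [show countFrom (genFix 5) 8000 (0 + 8000 + 8000) = 19 by decide +kernel]
  rw [show countFrom (genFix 5) 7671 (0 + 8000 + 8000 + 8000) = 0 by decide +kernel]

theorem cnt_6 : countFrom (genFix 6) D.n 0 = 694 := by
  rw [show D.n = 8000 + (8000 + (8000 + 7671)) from rfl, Fi23H.countFrom_add, Fi23H.countFrom_add, Fi23H.countFrom_add]
  rw [show countFrom (genFix 6) 8000 (0) = 560 by decide +kernel]
  rw [show countFrom (genFix 6) 8000 (0 + 8000) = 126 by decide +kernel]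
  rw [show countFrom (genFix 6) 8000 (0 + 8000 + 8000) = 8 by decide +kernel]
  rw [show countFrom (genFix 6) 7671 (0 + 8000 + 8000 + 8000) = 0 by decide +kernel]

theorem cnt_7 : countFrom (genFix 7) D.n 0 = 694 := by
  rw [show D.n = 8000 + (8000 + (8000 + 7671)) from rfl, Fi23H.countFrom_add, Fi23H.countFrom_add, Fi23H.countFrom_add]
  rw [show countFrom (genFix 7) 8000 (0) = 460 by decide +kernel]
  rw [show countFrom (genFix 7) 8000 (0 + 8000) = 174 by decide +kernel]
  rw [show countFrom (genFix 7) 8000 (0 + 8000 + 8000) = 60 by decide +kernel]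
  rw [show countFrom (genFix 7) 7671 (0 + 8000 + 8000 + 8000) = 0 by decide +kernel]

theorem cnt_8 : countFrom (genFix 8) D.n 0 = 694 := by
  rw [show D.n = 8000 + (8000 + (8000 + 7671)) from rfl, Fi23H.countFrom_add, Fi23H.countFrom_add, Fi23H.countFrom_add]
  rw [show countFrom (genFix 8) 8000 (0) = 465 by decide +kernel]
  rw [show countFrom (genFix 8) 8000 (0 + 8000) = 115 by decide +kernel]
  rw [show countFrom (genFix 8) 8000 (0 + 8000 + 8000) = 114 by decide +kernel]
  rw [show countFrom (genFix 8) 7671 (0 + 8000 + 8000 + 8000) = 0 by decide +kernel]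

/-- the certificates -/
noncomputable def classCert : ClassCert where
  cnt := fun k hk => match k, hk with
    | 0, _ => cnt_0
    | 1, _ => cnt_1
    | 2, _ => cnt_2
    | 3, _ => cnt_3
    | 4, _ => cnt_4
    | 5, _ => cnt_5
    | 6, _ => cnt_6
    | 7, _ => cnt_7
    | 8, _ => cnt_8
    | k + 9, h => absurd h (by omega)
  fix := fix_all
  rows := allRows
  info := coverInfo
  rows_ok := fun k hk => by
    have h := rowCheck_all k (hk.trans_le (le_of_eq (show allRows.length = 270 by decide +kernel)))
    rw [rowCheck, List.getElem?_eq_getElem hk] at h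
    exact h
  cover := fun y hy => by
    rw [show allRows.length = 270 by decide +kernel]
    exact cover_all y hy
  s1 := ⟨1, [2,3,4,5,6,7,3,2,4,3,5,4,7,3,2,1,9,6,5,4,3,2,7,3,4,5,6]⟩
  s9 := ⟨9, []⟩
  swap := by decide +kernel

end Cfsg.Agent.H65.Fi23Out
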