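import Cfsg.Agent.H65.Fi23Out.TreeData

/-! Kernel checks for the classification of generator tuples in Fi23. -/

set_option autoImplicit false
set_option maxRecDepth 8000

namespace Cfsg.Agent.H65.Fi23Out

open Cfsg.Agent.H16

theorem shape0 : node0.shapeOk = true := by decide +kernel

theorem orb0_0 : allFrom (fun y => node0.orbOk info0 y) 1000 0 = true := by decide +kernel

theorem orb0_1 : allFrom (fun y => node0.orbOk info0 y) 1000 1000 = true := by decide +kernel

theorem orb0_2 : allFrom (fun y => node0.orbOk info0 y) 1000 2000 = true := by decide +kernel

theorem orb0_3 : allFrom (fun y => node0.orbOk info0 y) 1000 3000 = true := by decide +kernel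

theorem orb0_4 : allFrom (fun y => node0.orbOk info0 y) 1000 4000 = true := by decide +kernel

theorem orb0_5 : allFrom (fun y => node0.orbOk info0 y) 1000 5000 = true := by decide +kernel

theorem orb0_6 : allFrom (fun y => node0.orbOk info0 y) 1000 6000 = true := by decide +kernel

theorem orb0_7 : allFrom (fun y => node0.orbOk info0 y) 1000 7000 = true := by decide +kernel

theorem orb0_8 : allFrom (fun y => node0.orbOk info0 y) 1000 8000 = true := by decide +kernel

theorem orb0_9 : allFrom (fun y => node0.orbOk info0 y) 1000 9000 = true := by decide +kernel

theorem orb0_10 : allFrom (fun y => node0.orbOk info0 y) 1000 10000 = true := by decide +kernel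

theorem orb0_11 : allFrom (fun y => node0.orbOk info0 y) 1000 11000 = true := by decide +kernel

theorem orb0_12 : allFrom (fun y => node0.orbOk info0 y) 1000 12000 = true := by decide +kernel

theorem orb0_13 : allFrom (fun y => node0.orbOk info0 y) 1000 13000 = true := by decide +kernel

theorem orb0_14 : allFrom (fun y => node0.orbOk info0 y) 1000 14000 = true := by decide +kernel

theorem orb0_15 : allFrom (fun y => node0.orbOk info0 y) 1000 15000 = true := by decide +kernel

theorem orb0_16 : allFrom (fun y => node0.orbOk info0 y) 1000 16000 = true := by decide +kernel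

theorem orb0_17 : allFrom (fun y => node0.orbOk info0 y) 1000 17000 = true := by decide +kernel

theorem orb0_18 : allFrom (fun y => node0.orbOk info0 y) 1000 18000 = true := by decide +kernel

theorem orb0_19 : allFrom (fun y => node0.orbOk info0 y) 1000 19000 = true := by decide +kernel

theorem orb0_20 : allFrom (fun y => node0.orbOk info0 y) 1000 20000 = true := by decide +kernel

theorem orb0_21 : allFrom (fun y => node0.orbOk info0 y) 1000 21000 = true := by decide +kernel

theorem orb0_22 : allFrom (fun y => node0.orbOk info0 y) 1000 22000 = true := by decide +kernel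

theorem orb0_23 : allFrom (fun y => node0.orbOk info0 y) 1000 23000 = true := by decide +kernel

theorem orb0_24 : allFrom (fun y => node0.orbOk info0 y) 1000 24000 = true := by decide +kernel

theorem orb0_25 : allFrom (fun y => node0.orbOk info0 y) 1000 25000 = true := by decide +kernel

theorem orb0_26 : allFrom (fun y => node0.orbOk info0 y) 1000 26000 = true := by decide +kernel

theorem orb0_27 : allFrom (fun y => node0.orbOk info0 y) 1000 27000 = true := by decide +kernel

theorem orb0_28 : allFrom (fun y => node0.orbOk info0 y) 1000 28000 = true := by decide +kernel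

theorem orb0_29 : allFrom (fun y => node0.orbOk info0 y) 1000 29000 = true := by decide +kernel

theorem orb0_30 : allFrom (fun y => node0.orbOk info0 y) 1000 30000 = true := by decide +kernel

theorem orb0_31 : allFrom (fun y => node0.orbOk info0 y) 671 31000 = true := by decide +kernel

theorem orb0 : ∀ y, y < D.n → node0.orbOk info0 y = true :=
  (allFrom_extend (allFrom_extend (allFrom_extend (allFrom_extend (allFrom_extend (allFrom_extend (allFrom_extend (allFrom_extend (allFrom_extend (allFrom_extend (allFrom_extend (allFrom_extend (allFrom_extend (allFrom_extend (allFrom_extend (allFrom_extend (allFrom_extend (allFrom_extend (allFrom_extend (allFrom_extend (allFrom_extend (allFrom_extend (allFrom_extend (allFrom_extend (allFrom_extend (allFrom_extend (allFrom_extend (allFrom_extend (allFrom_extend (allFrom_extend (allFrom_extend (allFrom_extend allFrom_nil orb0_0) orb0_1) orb0_2) orb0_3) orb0_4) orb0_5) orb0_6) orb0_7) orb0_8) orb0_9) orb0_10) orb0_11) orb0_12) orb0_13) orb0_14) orb0_15) orb0_16) orb0_17) orb0_18) orb0_19) orb0_20) orb0_21) orb0_22) orb0_23) orb0_24) orb0_25) orb0_26) orb0_27) orb0_28) orb0_29) orb0_30) orb0_31)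

end Cfsg.Agent.H65.Fi23Out
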