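import Cfsg.Agent.H65.Fi23Out.TreeData

/-! Kernel checks for the classification of generator tuples in Fi23. -/

set_option autoImplicit false
set_option maxRecDepth 8000

namespace Cfsg.Agent.H65.Fi23Out

open Cfsg.Agent.H16

theorem shape1 : node1.shapeOk = true := by decide +kernel

theorem orb1_0 : allFrom (fun y => node1.orbOk info1 y) 3000 0 = true := by decide +kernel

theorem orb1_1 : allFrom (fun y => node1.orbOk info1 y) 3000 3000 = true := by decide +kernel

theorem orb1_2 : allFrom (fun y => node1.orbOk info1 y) 3000 6000 = true := by decide +kernel

theorem orb1_3 : allFrom (fun y => node1.orbOk info1 y) 3000 9000 = true := by decide +kernel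

theorem orb1_4 : allFrom (fun y => node1.orbOk info1 y) 3000 12000 = true := by decide +kernel

theorem orb1_5 : allFrom (fun y => node1.orbOk info1 y) 3000 15000 = true := by decide +kernel

theorem orb1_6 : allFrom (fun y => node1.orbOk info1 y) 3000 18000 = true := by decide +kernel

theorem orb1_7 : allFrom (fun y => node1.orbOk info1 y) 3000 21000 = true := by decide +kernel

theorem orb1_8 : allFrom (fun y => node1.orbOk info1 y) 3000 24000 = true := by decide +kernel

theorem orb1_9 : allFrom (fun y => node1.orbOk info1 y) 3000 27000 = true := by decide +kernel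

theorem orb1_10 : allFrom (fun y => node1.orbOk info1 y) 1671 30000 = true := by decide +kernel

theorem orb1 : ∀ y, y < D.n → node1.orbOk info1 y = true :=
  (allFrom_extend (allFrom_extend (allFrom_extend (allFrom_extend (allFrom_extend (allFrom_extend (allFrom_extend (allFrom_extend (allFrom_extend (allFrom_extend (allFrom_extend allFrom_nil orb1_0) orb1_1) orb1_2) orb1_3) orb1_4) orb1_5) orb1_6) orb1_7) orb1_8) orb1_9) orb1_10)

theorem shape2 : node2.shapeOk = true := by decide +kernel

theorem orb2_0 : allFrom (fun y => node2.orbOk info2 y) 3000 0 = true := by decide +kernel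

theorem orb2_1 : allFrom (fun y => node2.orbOk info2 y) 3000 3000 = true := by decide +kernel

theorem orb2_2 : allFrom (fun y => node2.orbOk info2 y) 3000 6000 = true := by decide +kernel

theorem orb2_3 : allFrom (fun y => node2.orbOk info2 y) 3000 9000 = true := by decide +kernel

theorem orb2_4 : allFrom (fun y => node2.orbOk info2 y) 3000 12000 = true := by decide +kernel

theorem orb2_5 : allFrom (fun y => node2.orbOk info2 y) 3000 15000 = true := by decide +kernel

theorem orb2_6 : allFrom (fun y => node2.orbOk info2 y) 3000 18000 = true := by decide +kernel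

theorem orb2_7 : allFrom (fun y => node2.orbOk info2 y) 3000 21000 = true := by decide +kernel

theorem orb2_8 : allFrom (fun y => node2.orbOk info2 y) 3000 24000 = true := by decide +kernel

theorem orb2_9 : allFrom (fun y => node2.orbOk info2 y) 3000 27000 = true := by decide +kernel

theorem orb2_10 : allFrom (fun y => node2.orbOk info2 y) 1671 30000 = true := by decide +kernel

theorem orb2 : ∀ y, y < D.n → node2.orbOk info2 y = true :=
  (allFrom_extend (allFrom_extend (allFrom_extend (allFrom_extend (allFrom_extend (allFrom_extend (allFrom_extend (allFrom_extend (allFrom_extend (allFrom_extend (allFrom_extend allFrom_nil orb2_0) orb2_1) orb2_2) orb2_3) orb2_4) orb2_5) orb2_6) orb2_7) orb2_8) orb2_9) orb2_10)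

theorem shape3 : node3.shapeOk = true := by decide +kernel

theorem orb3_0 : allFrom (fun y => node3.orbOk info3 y) 8000 0 = true := by decide +kernel

theorem orb3_1 : allFrom (fun y => node3.orbOk info3 y) 8000 8000 = true := by decide +kernel

theorem orb3_2 : allFrom (fun y => node3.orbOk info3 y) 8000 16000 = true := by decide +kernel

theorem orb3_3 : allFrom (fun y => node3.orbOk info3 y) 7671 24000 = true := by decide +kernel

theorem orb3 : ∀ y, y < D.n → node3.orbOk info3 y = true :=
  (allFrom_extend (allFrom_extend (allFrom_extend (allFrom_extend allFrom_nil orb3_0) orb3_1) orb3_2) orb3_3)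

theorem shape4 : node4.shapeOk = true := by decide +kernel

theorem orb4_0 : allFrom (fun y => node4.orbOk info4 y) 8000 0 = true := by decide +kernel

theorem orb4_1 : allFrom (fun y => node4.orbOk info4 y) 8000 8000 = true := by decide +kernel

theorem orb4_2 : allFrom (fun y => node4.orbOk info4 y) 8000 16000 = true := by decide +kernel

theorem orb4_3 : allFrom (fun y => node4.orbOk info4 y) 7671 24000 = true := by decide +kernel

theorem orb4 : ∀ y, y < D.n → node4.orbOk info4 y = true :=
  (allFrom_extend (allFrom_extend (allFrom_extend (allFrom_extend allFrom_nil orb4_0) orb4_1) orb4_2) orb4_3)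

theorem shape5 : node5.shapeOk = true := by decide +kernel

theorem orb5_0 : allFrom (fun y => node5.orbOk info5 y) 8000 0 = true := by decide +kernel

theorem orb5_1 : allFrom (fun y => node5.orbOk info5 y) 8000 8000 = true := by decide +kernel

theorem orb5_2 : allFrom (fun y => node5.orbOk info5 y) 8000 16000 = true := by decide +kernel

theorem orb5_3 : allFrom (fun y => node5.orbOk info5 y) 7671 24000 = true := by decide +kernel

theorem orb5 : ∀ y, y < D.n → node5.orbOk info5 y = true :=
  (allFrom_extend (allFrom_extend (allFrom_extend (allFrom_extend allFrom_nil orb5_0) orb5_1) orb5_2) orb5_3)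

theorem shape6 : node6.shapeOk = true := by decide +kernel

theorem orb6_0 : allFrom (fun y => node6.orbOk info6 y) 8000 0 = true := by decide +kernel

theorem orb6_1 : allFrom (fun y => node6.orbOk info6 y) 8000 8000 = true := by decide +kernel

theorem orb6_2 : allFrom (fun y => node6.orbOk info6 y) 8000 16000 = true := by decide +kernel

theorem orb6_3 : allFrom (fun y => node6.orbOk info6 y) 7671 24000 = true := by decide +kernel

theorem orb6 : ∀ y, y < D.n → node6.orbOk info6 y = true :=
  (allFrom_extend (allFrom_extend (allFrom_extend (allFrom_extend allFrom_nil orb6_0) orb6_1) orb6_2) orb6_3)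

theorem shape7 : node7.shapeOk = true := by decide +kernel

theorem orb7_0 : allFrom (fun y => node7.orbOk info7 y) 8000 0 = true := by decide +kernel

theorem orb7_1 : allFrom (fun y => node7.orbOk info7 y) 8000 8000 = true := by decide +kernel

theorem orb7_2 : allFrom (fun y => node7.orbOk info7 y) 8000 16000 = true := by decide +kernel

theorem orb7_3 : allFrom (fun y => node7.orbOk info7 y) 7671 24000 = true := by decide +kernel

theorem orb7 : ∀ y, y < D.n → node7.orbOk info7 y = true :=
  (allFrom_extend (allFrom_extend (allFrom_extend (allFrom_extend allFrom_nil orb7_0) orb7_1) orb7_2) orb7_3)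

theorem shape8 : node8.shapeOk = true := by decide +kernel

theorem orb8_0 : allFrom (fun y => node8.orbOk info8 y) 8000 0 = true := by decide +kernel

theorem orb8_1 : allFrom (fun y => node8.orbOk info8 y) 8000 8000 = true := by decide +kernel

theorem orb8_2 : allFrom (fun y => node8.orbOk info8 y) 8000 16000 = true := by decide +kernel

theorem orb8_3 : allFrom (fun y => node8.orbOk info8 y) 7671 24000 = true := by decide +kernel

theorem orb8 : ∀ y, y < D.n → node8.orbOk info8 y = true :=
  (allFrom_extend (allFrom_extend (allFrom_extend (allFrom_extend allFrom_nil orb8_0) orb8_1) orb8_2) orb8_3)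

theorem shape9 : node9.shapeOk = true := by decide +kernel

theorem orb9_0 : allFrom (fun y => node9.orbOk info9 y) 8000 0 = true := by decide +kernel

theorem orb9_1 : allFrom (fun y => node9.orbOk info9 y) 8000 8000 = true := by decide +kernel

theorem orb9_2 : allFrom (fun y => node9.orbOk info9 y) 8000 16000 = true := by decide +kernel

theorem orb9_3 : allFrom (fun y => node9.orbOk info9 y) 7671 24000 = true := by decide +kernel

theorem orb9 : ∀ y, y < D.n → node9.orbOk info9 y = true :=
  (allFrom_extend (allFrom_extend (allFrom_extend (allFrom_extend allFrom_nil orb9_0) orb9_1) orb9_2) orb9_3)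

theorem shape10 : node10.shapeOk = true := by decide +kernel

theorem orb10_0 : allFrom (fun y => node10.orbOk info10 y) 8000 0 = true := by decide +kernel

theorem orb10_1 : allFrom (fun y => node10.orbOk info10 y) 8000 8000 = true := by decide +kernel

theorem orb10_2 : allFrom (fun y => node10.orbOk info10 y) 8000 16000 = true := by decide +kernel

theorem orb10_3 : allFrom (fun y => node10.orbOk info10 y) 7671 24000 = true := by decide +kernel

theorem orb10 : ∀ y, y < D.n → node10.orbOk info10 y = true :=
  (allFrom_extend (allFrom_extend (allFrom_extend (allFrom_extend allFrom_nil orb10_0) orb10_1) orb10_2) orb10_3)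

theorem shape11 : node11.shapeOk = true := by decide +kernel

theorem orb11_0 : allFrom (fun y => node11.orbOk info11 y) 8000 0 = true := by decide +kernel

theorem orb11_1 : allFrom (fun y => node11.orbOk info11 y) 8000 8000 = true := by decide +kernel

theorem orb11_2 : allFrom (fun y => node11.orbOk info11 y) 8000 16000 = true := by decide +kernel

theorem orb11_3 : allFrom (fun y => node11.orbOk info11 y) 7671 24000 = true := by decide +kernel

theorem orb11 : ∀ y, y < D.n → node11.orbOk info11 y = true :=
  (allFrom_extend (allFrom_extend (allFrom_extend (allFrom_extend allFrom_nil orb11_0) orb11_1) orb11_2) orb11_3)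

theorem shape12 : node12.shapeOk = true := by decide +kernel

theorem orb12_0 : allFrom (fun y => node12.orbOk info12 y) 8000 0 = true := by decide +kernel

theorem orb12_1 : allFrom (fun y => node12.orbOk info12 y) 8000 8000 = true := by decide +kernel

theorem orb12_2 : allFrom (fun y => node12.orbOk info12 y) 8000 16000 = true := by decide +kernel

theorem orb12_3 : allFrom (fun y => node12.orbOk info12 y) 7671 24000 = true := by decide +kernel

theorem orb12 : ∀ y, y < D.n → node12.orbOk info12 y = true :=
  (allFrom_extend (allFrom_extend (allFrom_extend (allFrom_extend allFrom_nil orb12_0) orb12_1) orb12_2) orb12_3)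

theorem shape13 : node13.shapeOk = true := by decide +kernel

theorem orb13_0 : allFrom (fun y => node13.orbOk info13 y) 8000 0 = true := by decide +kernel

theorem orb13_1 : allFrom (fun y => node13.orbOk info13 y) 8000 8000 = true := by decide +kernel

theorem orb13_2 : allFrom (fun y => node13.orbOk info13 y) 8000 16000 = true := by decide +kernel

theorem orb13_3 : allFrom (fun y => node13.orbOk info13 y) 7671 24000 = true := by decide +kernel

theorem orb13 : ∀ y, y < D.n → node13.orbOk info13 y = true :=
  (allFrom_extend (allFrom_extend (allFrom_extend (allFrom_extend allFrom_nil orb13_0) orb13_1) orb13_2) orb13_3)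

theorem shape14 : node14.shapeOk = true := by decide +kernel

theorem orb14_0 : allFrom (fun y => node14.orbOk info14 y) 8000 0 = true := by decide +kernel

theorem orb14_1 : allFrom (fun y => node14.orbOk info14 y) 8000 8000 = true := by decide +kernel

theorem orb14_2 : allFrom (fun y => node14.orbOk info14 y) 8000 16000 = true := by decide +kernel

theorem orb14_3 : allFrom (fun y => node14.orbOk info14 y) 7671 24000 = true := by decide +kernel

theorem orb14 : ∀ y, y < D.n → node14.orbOk info14 y = true :=
  (allFrom_extend (allFrom_extend (allFrom_extend (allFrom_extend allFrom_nil orb14_0) orb14_1) orb14_2) orb14_3)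

end Cfsg.Agent.H65.Fi23Out
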