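import Cfsg.Prelude.Def_KGroupFacts
import Cfsg.Agent.H65.Fi23Out.TreeA
import Cfsg.Agent.H65.Fi23Out.TreeB
import Cfsg.Agent.H65.Fi23Out.FixedChecks

/-! Every automorphism of Fi23 is inner. -/

set_option autoImplicit false

namespace Cfsg.Agent.H65.Fi23Out

open Cfsg.Spor Cfsg.Agent.H16 EnumData

/-- the start: the first generator is fixed -/
theorem reach_start (φ : MulAut Fi23) : Reach φ node0.pre := by
  have htau : ∀ (ψ : MulAut Fi23) (x : Nat), x < 10 → ∃ y, IsTau y (ψ (Fi23H.val x)) :=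
    fun ψ x hx => aut_tau classCert ψ (isTau_gen hx)
  obtain ⟨y, hy⟩ := htau φ 0 (by norm_num)
  obtain ⟨g, hg⟩ := exists_to y
  obtain ⟨g0, hg0⟩ := exists_to (⟨gp 0, gp_lt 0⟩ : Fin D.n)
  refine ⟨g0 * g⁻¹, fun x hx => htau _ x hx, fun it hit => ?_⟩
  rw [List.mem_singleton.1 (show it ∈ [((0 : Nat), (⟨0, []⟩ : Spec))] from hit)]
  have h1 := hy.move (g0 * g⁻¹)
  rw [img_mul, ← hg, img_inv, hg0] at h1
  rw [MulAut.mul_apply, MulAut.conj_apply]
  exact (h1.unique (isTau_gen (by norm_num))).trans (el_single 0).symm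

theorem reps_nil {N : Node} {φ : MulAut Fi23} (h : ∃ r ∈ N.reps, Reach φ (N.pre ++ [(N.x, r)]))
    (hn : N.reps = []) : False := by
  obtain ⟨r, hr, -⟩ := h
  rw [hn] at hr
  exact absurd hr (List.not_mem_nil)

/-- the final prefix: the generators are fixed -/
def fullPre : List (Nat × Spec) :=
  [(0, ⟨0, []⟩), (1, ⟨1, []⟩), (2, ⟨2, []⟩), (3, ⟨3, []⟩), (4, ⟨4, []⟩), (5, ⟨5, []⟩), (6, ⟨6, []⟩),
    (9, ⟨9, []⟩), (7, ⟨7, []⟩), (8, ⟨8, []⟩)]

theorem reach_full (φ : MulAut Fi23) : Reach φ fullPre := by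
  obtain ⟨r, hr, h1⟩ := node0.step info0 shape0 orb0 (reach_start φ)
  rw [List.mem_singleton.1 (show r ∈ [(⟨1, []⟩ : Spec)] from hr)] at h1
  obtain ⟨r, hr, h2⟩ := node1.step info1 shape1 orb1 h1
  rw [List.mem_singleton.1 (show r ∈ [(⟨2, []⟩ : Spec)] from hr)] at h2
  obtain ⟨r, hr, h3⟩ := node2.step info2 shape2 orb2 h2
  rw [List.mem_singleton.1 (show r ∈ [(⟨3, []⟩ : Spec)] from hr)] at h3
  obtain ⟨r, hr, h4⟩ := node3.step info3 shape3 orb3 h3
  rcases List.mem_cons.1 (show r ∈ [(⟨4, []⟩ : Spec), ⟨7, []⟩] from hr) with rfl | hr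
  · obtain ⟨r, hr, h5⟩ := node4.step info4 shape4 orb4 h4
    rw [List.mem_singleton.1 (show r ∈ [(⟨5, []⟩ : Spec)] from hr)] at h5
    obtain ⟨r, hr, h6⟩ := node5.step info5 shape5 orb5 h5
    rcases List.mem_cons.1 (show r ∈ [(⟨6, []⟩ : Spec),
      ⟨0, [1, 2, 3, 4, 7, 3, 2, 1, 8, 7, 3, 2, 4, 3, 7]⟩] from hr) with rfl | hr
    · obtain ⟨r, hr, h7⟩ := node6.step info6 shape6 orb6 h6
      rw [List.mem_singleton.1 (show r ∈ [(⟨9, []⟩ : Spec)] from hr)] at h7
      obtain ⟨r, hr, h8⟩ := node7.step info7 shape7 orb7 h7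
      rw [List.mem_singleton.1 (show r ∈ [(⟨7, []⟩ : Spec)] from hr)] at h8
      obtain ⟨r, hr, h9⟩ := node8.step info8 shape8 orb8 h8
      rw [List.mem_singleton.1 (show r ∈ [(⟨8, []⟩ : Spec)] from hr)] at h9
      exact h9
    · rw [List.mem_singleton.1 hr] at h6
      obtain ⟨r, hr, h7⟩ := node9.step info9 shape9 orb9 h6
      rw [List.mem_singleton.1 (show r ∈ [(⟨8, []⟩ : Spec)] from hr)] at h7
      exact (reps_nil (node10.step info10 shape10 orb10 h7) rfl).elim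
  · rw [List.mem_singleton.1 hr] at h4
    obtain ⟨r, hr, h5⟩ := node11.step info11 shape11 orb11 h4
    rw [List.mem_singleton.1 (show r ∈ [(⟨8, []⟩ : Spec)] from hr)] at h5
    obtain ⟨r, hr, h6⟩ := node12.step info12 shape12 orb12 h5
    rw [List.mem_singleton.1 (show r ∈ [(⟨0, [1, 2, 3, 4, 5, 7, 3, 2, 1, 4, 3, 2, 7, 3, 4]⟩ : Spec)]
      from hr)] at h6
    obtain ⟨r, hr, h7⟩ := node13.step info13 shape13 orb13 h6
    rw [List.mem_singleton.1 (show r ∈ [(⟨6, []⟩ : Spec)] from hr)] at h7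
    exact (reps_nil (node14.step info14 shape14 orb14 h7) rfl).elim

theorem mem_inn (φ : MulAut Fi23) : φ ∈ Cfsg.Inn Fi23 := by
  obtain ⟨u, hgood⟩ := reach_full φ
  have hfix : ∀ k, k < 10 → (MulAut.conj u * φ) (Fi23H.val k) = Fi23H.val k := by
    intro k hk
    have h := hgood.agree (k, ⟨k, []⟩) (by interval_cases k <;> simp [fullPre])
    exact h.trans (el_single k)
  have hid : MulAut.conj u * φ = 1 := by
    refine MulEquiv.ext fun g => ?_
    have hg : g ∈ Subgroup.closure (Set.range Fi23H.val) := by rw [M.gen_closure]; trivial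
    refine MonoidHom.eqOn_closure (f := (MulAut.conj u * φ).toMonoidHom) (g := MonoidHom.id Fi23) ?_ hg
    rintro y ⟨k, rfl⟩
    by_cases hk : k < 10
    · exact hfix k hk
    · rw [val_out (by omega), map_one, map_one]
  refine ⟨u⁻¹, ?_⟩
  rw [map_inv]
  exact inv_eq_of_mul_eq_one_right hid

theorem card_out : Nat.card (Cfsg.Out Fi23) = 1 := by
  rw [Nat.card_eq_one_iff_unique]
  refine ⟨⟨fun a b => ?_⟩, inferInstance⟩
  induction a using QuotientGroup.induction_on with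
  | H φ =>
  induction b using QuotientGroup.induction_on with
  | H ψ => rw [(QuotientGroup.eq_one_iff _).2 (mem_inn φ), (QuotientGroup.eq_one_iff _).2 (mem_inn ψ)]

end Cfsg.Agent.H65.Fi23Out
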