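import Cfsg.Agent.H16.Fi23Double

/-!
The certified model of Fi23 seen as a set of transpositions: every point carries the conjugate of the
central involution of the point stabiliser.
-/

set_option autoImplicit false

namespace Cfsg.Agent.H65.Fi23Out

open Cfsg.Spor Cfsg.Agent.H16 EnumData

/-- the certificate -/
noncomputable abbrev D : EnumData := Fi23H.data

theorem hV : D.Valid := Fi23H.valid

/-- the model -/
noncomputable abbrev M : D.Model Fi23H.val Fi23H.valid Fi23H.sub := Fi23H.theModel

/-- element of a word -/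
noncomputable abbrev el (w : List Nat) : Fi23 := Fi23Double.el w

theorem el_nil : el [] = 1 := rfl

theorem el_append (u v : List Nat) : el (u ++ v) = el v * el u := Fi23Double.el_append u v

theorem el_single (g : Nat) : el [g] = Fi23H.val g := by simp [el, Fi23Double.el, ev]

theorem el_rev (w : List Nat) : el w.reverse = (el w)⁻¹ :=
  ev_reverse Fi23H.val M.sq w

theorem val_out {g : Nat} (hg : 10 ≤ g) : Fi23H.val g = 1 := M.outside g hg

/-- all letters are generators -/
noncomputable def wordOk (w : List Nat) : Bool :=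
  List.rec (motive := fun _ => Bool) true (fun g _ ih => Nat.ble (Nat.succ g) 10 && ih) w

theorem wordOk_spec : ∀ {w : List Nat}, wordOk w = true → ∀ g ∈ w, g < 10
  | [], _, g, hg => absurd hg (List.not_mem_nil)
  | a :: w, h, g, hg => by
    have h' : (Nat.ble (Nat.succ a) 10 && wordOk w) = true := h
    rw [Bool.and_eq_true] at h'
    rcases List.mem_cons.1 hg with rfl | hg
    · exact Nat.le_of_ble_eq_true h'.1
    · exact wordOk_spec h'.2 g hg

theorem ng_eq : D.ng = 10 := rfl

theorem n_eq : D.n = 31671 := rfl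

/-- the image of a point -/
noncomputable def img (x : Fi23) (i : Fin D.n) : Fin D.n := M.rho x i

theorem img_mul (x y : Fi23) (i : Fin D.n) : img (x * y) i = img x (img y i) := by
  rw [img, map_mul]; rfl

theorem img_one (i : Fin D.n) : img 1 i = i := by
  rw [img, map_one]; rfl

theorem img_inj (x : Fi23) {i j : Fin D.n} (h : img x i = img x j) : i = j := (M.rho x).injective h

theorem img_inv (x : Fi23) (i : Fin D.n) : img x⁻¹ (img x i) = i := by
  rw [← img_mul, inv_mul_cancel, img_one]

theorem img_inv' (x : Fi23) (i : Fin D.n) : img x (img x⁻¹ i) = i := by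
  rw [← img_mul, mul_inv_cancel, img_one]

theorem img_el {w : List Nat} (hw : wordOk w = true) (i : Fin D.n) :
    ((img (el w) i : Fin D.n) : Nat) = D.run w i := by
  rw [img, el, Fi23Double.el, M.rho_ev]
  exact hV.perm_word _ (wordOk_spec hw) i

theorem eq_of_img {x y : Fi23} (h : ∀ i, img x i = img y i) : x = y :=
  Fi23Order.card_and_faithful.2 (Equiv.ext h)

/-- the point of the subgroup -/
noncomputable def pt0 : Fin D.n := ⟨0, hV.pos⟩

theorem exists_to (i : Fin D.n) : ∃ x : Fi23, img x pt0 = i := M.reach i i.2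

theorem fix_iff_mem (x : Fi23) : img x pt0 = pt0 ↔ x ∈ Fi23H.sub := by
  refine ⟨fun h => ?_, fun h => M.rho_fix h⟩
  have h1 := M.smul_coset x ⟨0, hV.pos⟩
  rw [show M.rho x ⟨0, hV.pos⟩ = ⟨0, hV.pos⟩ from h, M.coset_zero, MulAction.Quotient.smul_coe,
    smul_eq_mul, mul_one, QuotientGroup.eq, mul_one] at h1
  exact Fi23H.sub.inv_mem_iff.1 h1

/-- the central involution of the point stabiliser -/
noncomputable def t0 : Fi23 := el Fi23Double.zW

theorem t0_eq : ((Fi23Double.zz : Fi23H.sub) : Fi23) = t0 :=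
  Fi23Double.coe_ev _ Fi23Double.zW_lt

theorem t0_mem : t0 ∈ Fi23H.sub := t0_eq ▸ Fi23Double.zz.2

theorem t0_sq : t0 * t0 = 1 := by
  rw [← t0_eq, ← Subgroup.coe_mul, Fi23Double.zz_sq, Subgroup.coe_one]

theorem t0_comm {h : Fi23} (hh : h ∈ Fi23H.sub) : Commute h t0 := by
  have := Subgroup.mem_center_iff.1 Fi23Double.zz_central ⟨h, hh⟩
  have h2 := congrArg (fun z : Fi23H.sub => (z : Fi23)) this
  show h * t0 = t0 * h
  simpa [t0_eq] using h2

/-- `s` is the transposition of the point `y` -/
def IsTau (y : Fin D.n) (s : Fi23) : Prop := ∃ g : Fi23, img g pt0 = y ∧ s = g * t0 * g⁻¹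

theorem isTau_zero : IsTau pt0 t0 := ⟨1, img_one _, by simp⟩

theorem isTau_exists (y : Fin D.n) : ∃ s, IsTau y s := by
  obtain ⟨g, hg⟩ := exists_to y
  exact ⟨_, g, hg, rfl⟩

theorem IsTau.unique {y : Fin D.n} {s s' : Fi23} (h : IsTau y s) (h' : IsTau y s') : s = s' := by
  obtain ⟨g, hg, rfl⟩ := h
  obtain ⟨g', hg', rfl⟩ := h'
  have hfix : img (g⁻¹ * g') pt0 = pt0 := by rw [img_mul, hg', ← hg, img_inv]
  have hc : g⁻¹ * g' * t0 = t0 * (g⁻¹ * g') := t0_comm ((fix_iff_mem _).1 hfix)
  calc g * t0 * g⁻¹ = g * (t0 * (g⁻¹ * g')) * g'⁻¹ := by group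
    _ = g' * t0 * g'⁻¹ := by rw [← hc]; group

theorem IsTau.move {y : Fin D.n} {s : Fi23} (h : IsTau y s) (x : Fi23) :
    IsTau (img x y) (x * s * x⁻¹) := by
  obtain ⟨g, hg, rfl⟩ := h
  exact ⟨x * g, by rw [img_mul, hg], by group⟩

theorem IsTau.sq {y : Fin D.n} {s : Fi23} (h : IsTau y s) : s * s = 1 := by
  obtain ⟨g, -, rfl⟩ := h
  calc g * t0 * g⁻¹ * (g * t0 * g⁻¹) = g * (t0 * t0) * g⁻¹ := by group
    _ = 1 := by rw [t0_sq]; group

/-- An element fixing the point centralises its transposition. -/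
theorem IsTau.comm_of_fix {y : Fin D.n} {s x : Fi23} (h : IsTau y s) (hx : img x y = y) :
    Commute x s := by
  have h2 := h.move x
  rw [hx] at h2
  have e := h2.unique h
  show x * s = s * x
  calc x * s = x * s * x⁻¹ * x := by group
    _ = s * x := by rw [e]

end Cfsg.Agent.H65.Fi23Out
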