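import Cfsg.Agent.H65.Fi23Out.Basic

/-! Transpositions determine their points; the generators are the transpositions of explicit points. -/

set_option autoImplicit false

namespace Cfsg.Agent.H65.Fi23Out

open Cfsg.Spor Cfsg.Agent.H16 EnumData

/-- two words give the same element (checked at the base) -/
noncomputable def eqW (u v : List Nat) : Bool :=
  wordOk u && (wordOk v &&
    (allFixed Fi23H.base []).all fun i => Nat.beq (D.run (u ++ v.reverse) i) i)

theorem eqW_spec {u v : List Nat} (h : eqW u v = true) : el u = el v := by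
  simp only [eqW, Bool.and_eq_true] at h
  obtain ⟨hu, hv, hf⟩ := h
  have hlt : ∀ g ∈ u ++ v.reverse, g < 10 := fun g hg => by
    rcases List.mem_append.1 hg with hg | hg
    · exact wordOk_spec hu g hg
    · exact wordOk_spec hv g (List.mem_reverse.1 hg)
  have h1 := Fi23Double.el_pow (u ++ v.reverse) hlt 1 (by
    simpa [List.flatten, List.replicate] using hf)
  rw [pow_one] at h1
  have h2 : (el v)⁻¹ * el u = 1 := by rw [← el_rev, ← el_append]; exact h1
  exact (inv_mul_eq_one.1 h2).symm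

/-- the word of the conjugate of a word -/
def conjW (v w : List Nat) : List Nat := w.reverse ++ (v ++ w)

theorem el_conjW (v w : List Nat) : el (conjW v w) = el w * el v * (el w)⁻¹ := by
  rw [conjW, el_append, el_append, el_rev]

theorem zW_ok : wordOk Fi23Double.zW = true := by decide +kernel

theorem isTau_of_path {w : List Nat} (hw : wordOk w = true) {p : Fin D.n}
    (hp : D.run w 0 = (p : Nat)) : IsTau p (el (conjW Fi23Double.zW w)) :=
  ⟨el w, Fin.ext (by rw [img_el hw]; exact hp), el_conjW _ _⟩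

/-- witness that two transpositions differ -/
theorem tau_ne {w : List Nat} {i : Nat} (hi : i < D.n) (hw : wordOk (conjW Fi23Double.zW w) = true)
    (h : Nat.beq (D.run (conjW Fi23Double.zW w) i) (D.run Fi23Double.zW i) = false) :
    el (conjW Fi23Double.zW w) ≠ t0 := by
  intro e
  have h1 := img_el hw ⟨i, hi⟩
  rw [e, t0, img_el zW_ok] at h1
  have h2 : D.run (conjW Fi23Double.zW w) i = D.run Fi23Double.zW i := h1.symm
  rw [h2] at h
  simp at h

/-- orbit label -/
noncomputable def lab (i : Nat) : Nat := bitField (Fi23H.labArr.get 60 i) 0 8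

theorem subWords_le :
    Fi23H.sub ≤ Subgroup.closure {x | ∃ k ∈ Fi23H.subWords, ev Fi23H.val (nthWord D.words k) = x} :=
  Fi23H.sub_eq.le

theorem lab_inv {x : Fi23} (hx : x ∈ Fi23H.sub) (i : Fin D.n) :
    lab (img x i : Fin D.n) = lab i :=
  M.label_invariant subWords_le Fi23H.orbits_ok x hx i

theorem lab_le : ∀ i, i < D.n → Nat.ble (lab i) 2 = true :=
  (allFrom_extend (allFrom_extend (allFrom_extend (allFrom_extend (allFrom_extend (allFrom_extend
    (allFrom_extend (allFrom_extend allFrom_nil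
      (show allFrom (fun i => Nat.ble (lab i) 2) 4000 0 = true by decide +kernel))
      (show allFrom (fun i => Nat.ble (lab i) 2) 4000 4000 = true by decide +kernel))
      (show allFrom (fun i => Nat.ble (lab i) 2) 4000 8000 = true by decide +kernel))
      (show allFrom (fun i => Nat.ble (lab i) 2) 4000 12000 = true by decide +kernel))
      (show allFrom (fun i => Nat.ble (lab i) 2) 4000 16000 = true by decide +kernel))
      (show allFrom (fun i => Nat.ble (lab i) 2) 4000 20000 = true by decide +kernel))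
      (show allFrom (fun i => Nat.ble (lab i) 2) 4000 24000 = true by decide +kernel))
      (show allFrom (fun i => Nat.ble (lab i) 2) 3671 28000 = true by decide +kernel))

theorem lab_zero_only : ∀ i, i < D.n → (!(Nat.beq (lab i) 0) || Nat.beq i 0) = true :=
  (allFrom_extend (allFrom_extend (allFrom_extend (allFrom_extend (allFrom_extend (allFrom_extend
    (allFrom_extend (allFrom_extend allFrom_nil
      (show allFrom (fun i => !(Nat.beq (lab i) 0) || Nat.beq i 0) 4000 0 = true by decide +kernel))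
      (show allFrom (fun i => !(Nat.beq (lab i) 0) || Nat.beq i 0) 4000 4000 = true by decide +kernel))
      (show allFrom (fun i => !(Nat.beq (lab i) 0) || Nat.beq i 0) 4000 8000 = true by decide +kernel))
      (show allFrom (fun i => !(Nat.beq (lab i) 0) || Nat.beq i 0) 4000 12000 = true by decide +kernel))
      (show allFrom (fun i => !(Nat.beq (lab i) 0) || Nat.beq i 0) 4000 16000 = true by decide +kernel))
      (show allFrom (fun i => !(Nat.beq (lab i) 0) || Nat.beq i 0) 4000 20000 = true by decide +kernel))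
      (show allFrom (fun i => !(Nat.beq (lab i) 0) || Nat.beq i 0) 4000 24000 = true by decide +kernel))
      (show allFrom (fun i => !(Nat.beq (lab i) 0) || Nat.beq i 0) 3671 28000 = true by decide +kernel))

/-- a point of the orbit with label `l` goes to the representative -/
theorem to_rep {l : Nat} (hrep : Fi23H.orbitReps.getD l D.n < D.n)
    (hl : bitField (Fi23H.labArr.get 60 (Fi23H.orbitReps.getD l D.n)) 0 8 = l) {i : Fin D.n}
    (hi : lab i = l) : ∃ h ∈ Fi23H.sub, img h ⟨Fi23H.orbitReps.getD l D.n, hrep⟩ = i := by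
  have hm : M.coset i ∈ MulAction.orbit Fi23H.sub (M.coset ⟨Fi23H.orbitReps.getD l D.n, hrep⟩) := by
    rw [M.orbit_eq_image subWords_le Fi23H.orbits_ok hrep hl]
    exact ⟨i, hi, rfl⟩
  obtain ⟨h, hh⟩ := hm
  exact ⟨h, h.2, M.coset_bijective.1 ((M.smul_coset _ _).symm.trans hh)⟩

theorem tau_t0_eq {y : Fin D.n} (h : IsTau y t0) : y = pt0 := by
  have hr1 : D.run [9] 0 = 1 := by decide +kernel
  have hr2 : D.run [9, 6, 5, 4, 3, 2, 7, 3, 4, 5, 6, 9] 0 = 53 := by decide +kernel
  have hne1 : el (conjW Fi23Double.zW [9]) ≠ t0 :=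
    tau_ne (i := 0) hV.pos (by decide +kernel) (by decide +kernel)
  have hne2 : el (conjW Fi23Double.zW [9, 6, 5, 4, 3, 2, 7, 3, 4, 5, 6, 9]) ≠ t0 :=
    tau_ne (i := 1) (by decide +kernel) (by decide +kernel) (by decide +kernel)
  have hle : lab y ≤ 2 := Nat.le_of_ble_eq_true (lab_le y y.2)
  have key : ∀ (l : Nat) (w : List Nat), lab y = l → wordOk w = true →
      el (conjW Fi23Double.zW w) ≠ t0 → Fi23H.orbitReps.getD l D.n < D.n →
      bitField (Fi23H.labArr.get 60 (Fi23H.orbitReps.getD l D.n)) 0 8 = l →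
      D.run w 0 = Fi23H.orbitReps.getD l D.n → False := by
    intro l w hyl hw hne hrep hl hrun
    obtain ⟨a, ha, hay⟩ := to_rep hrep hl hyl
    have h1 := (isTau_of_path (p := ⟨_, hrep⟩) hw hrun).move a
    rw [hay] at h1
    have h2 := h1.unique h
    apply hne
    calc el (conjW Fi23Double.zW w) = a⁻¹ * (a * el (conjW Fi23Double.zW w) * a⁻¹) * a := by group
      _ = a⁻¹ * (t0 * a) := by rw [h2]; group
      _ = t0 := by rw [← (t0_comm ha).eq]; group
  have h0 := lab_zero_only y y.2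
  rcases (show lab y = 0 ∨ lab y = 1 ∨ lab y = 2 by omega) with e | e | e
  · rw [e] at h0
    exact Fin.ext (show (y : Nat) = 0 by simpa using h0)
  · exact (key 1 [9] e (by decide +kernel) hne1 (by decide +kernel) (by decide +kernel) hr1).elim
  · exact (key 2 _ e (by decide +kernel) hne2 (by decide +kernel) (by decide +kernel) hr2).elim

theorem IsTau.inj {y y' : Fin D.n} {s : Fi23} (h : IsTau y s) (h' : IsTau y' s) : y = y' := by
  obtain ⟨g, hg, rfl⟩ := h
  have h1 := h'.move g⁻¹
  rw [show g⁻¹ * (g * t0 * g⁻¹) * g⁻¹⁻¹ = t0 by group] at h1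
  have h2 := congrArg (img g) (tau_t0_eq h1)
  rw [img_inv', hg] at h2
  exact h2.symm

theorem IsTau.fix_iff {y : Fin D.n} {s x : Fi23} (h : IsTau y s) : img x y = y ↔ Commute x s := by
  refine ⟨h.comm_of_fix, fun hc => ?_⟩
  have h2 := h.move x
  rw [show x * s * x⁻¹ = s by rw [hc.eq]; group] at h2
  exact h2.inj h

theorem IsTau.ne_one {y : Fin D.n} {s : Fi23} (h : IsTau y s) : s ≠ 1 := by
  rintro rfl
  have h1 : ∀ z : Fin D.n, img (1 : Fi23) z = z := img_one
  obtain ⟨g, -, hg⟩ := h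
  have ht : t0 = 1 := by
    calc t0 = g⁻¹ * (g * t0 * g⁻¹) * g := by group
      _ = 1 := by rw [← hg]; group
  have h2 : img (el [9]) pt0 = pt0 := (isTau_zero.fix_iff).2 (by rw [ht]; exact Commute.one_right _)
  have h3 := congrArg Fin.val h2
  rw [img_el (by decide +kernel)] at h3
  exact absurd (show D.run [9] 0 = 0 from h3) (by decide +kernel)

/-- the points of the generators -/
def genPts : List Nat := [11589, 8006, 8005, 8003, 8002, 8001, 8000, 8004, 8007, 7999]

/-- point of a generator -/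
noncomputable def gp (k : Nat) : Nat := genPts.getD k 0

theorem gp_lt (k : Nat) : gp k < D.n := by
  by_cases hk : k < 10
  · exact Nat.le_of_ble_eq_true (allFrom_spec
      (show allFrom (fun k => Nat.ble (gp k + 1) D.n) 10 0 = true by decide +kernel) k (by omega) (by omega))
  · rw [gp, List.getD_eq_default _ _ (by simpa [genPts] using hk)]
    exact hV.pos

/-- paths to the points of the generators -/
def genPaths : List (List Nat) :=
  [[9, 6, 5, 4, 3, 2, 1, 0, 7, 3, 2, 4, 3, 5, 4, 6, 5, 7, 3, 2, 4, 3, 7, 9, 6, 5, 4, 3, 2, 1],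
   [9, 6, 5, 4, 3, 2, 1, 7, 3, 2, 4, 3, 5, 4, 6, 5, 7, 3, 2, 4, 3, 7, 9, 6, 5, 4, 3, 2],
   [9, 6, 5, 4, 3, 2, 1, 7, 3, 2, 4, 3, 5, 4, 6, 5, 7, 3, 2, 1, 4, 3, 7, 9, 6, 5, 4, 3],
   [9, 6, 5, 4, 3, 2, 1, 7, 3, 2, 4, 3, 5, 4, 6, 5, 7, 3, 2, 1, 4, 3, 2, 7, 9, 6, 5, 4],
   [9, 6, 5, 4, 3, 2, 1, 7, 3, 2, 4, 3, 5, 4, 6, 5, 7, 3, 2, 1, 4, 3, 2, 7, 3, 9, 6, 5],
   [9, 6, 5, 4, 3, 2, 1, 7, 3, 2, 4, 3, 5, 4, 6, 5, 7, 3, 2, 1, 4, 3, 2, 7, 3, 4, 9, 6],
   [9, 6, 5, 4, 3, 2, 1, 7, 3, 2, 4, 3, 5, 4, 6, 5, 7, 3, 2, 1, 4, 3, 2, 7, 3, 4, 5, 9],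
   [9, 6, 5, 4, 3, 2, 1, 7, 3, 2, 4, 3, 5, 4, 6, 5, 7, 3, 2, 1, 4, 3, 2, 9, 6, 5, 4, 3],
   [9, 6, 5, 4, 3, 2, 7, 3, 4, 5, 6, 8, 7, 3, 2, 4, 3, 5, 4, 7, 3, 2, 9, 6, 5, 4, 3, 7],
   [9, 6, 5, 4, 3, 2, 1, 7, 3, 2, 4, 3, 5, 4, 6, 5, 7, 3, 2, 1, 4, 3, 2, 7, 3, 4, 5, 6]]

/-- check of the point of one generator -/
noncomputable def genOk (k : Nat) : Bool :=
  wordOk (genPaths.getD k []) && (Nat.beq (D.run (genPaths.getD k []) 0) (gp k) &&
    eqW (conjW Fi23Double.zW (genPaths.getD k [])) [k])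

theorem isTau_gen {k : Nat} (hk : k < 10) : IsTau ⟨gp k, gp_lt k⟩ (Fi23H.val k) := by
  have h := allFrom_spec (show allFrom genOk 10 0 = true by decide +kernel) k (by omega) (by omega)
  simp only [genOk, Bool.and_eq_true] at h
  rw [← el_single k, ← eqW_spec h.2.2]
  exact isTau_of_path h.1 (Nat.eq_of_beq_eq_true h.2.1)

/-- the word of a transposition given by a generator and a path from its point -/
def tauW (k : Nat) (w : List Nat) : List Nat := conjW [k] w

theorem isTau_tauW {k : Nat} (hk : k < 10) {w : List Nat} (hw : wordOk w = true) {u : Fin D.n}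
    (hu : D.run w (gp k) = (u : Nat)) : IsTau u (el (tauW k w)) := by
  have h := (isTau_gen hk).move (el w)
  rw [show img (el w) ⟨gp k, gp_lt k⟩ = u from Fin.ext (by rw [img_el hw]; exact hu)] at h
  rw [tauW, el_conjW, el_single]
  exact h

end Cfsg.Agent.H65.Fi23Out
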