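import Cfsg.Agent.H65.Fi23Out.Inj

/-! One step of the classification of tuples of transpositions with the pattern of the generators. -/

set_option autoImplicit false

namespace Cfsg.Agent.H65.Fi23Out

open Cfsg.Spor Cfsg.Agent.H16 EnumData

/-- a transposition: the generator `k` moved along `w` -/
structure Spec where
  /-- generator -/
  k : Nat
  /-- path -/
  w : List Nat

/-- the word -/
def Spec.word (s : Spec) : List Nat := tauW s.k s.w

/-- the point -/
noncomputable def Spec.pt (s : Spec) : Nat := D.run s.w (gp s.k)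

/-- well formed -/
noncomputable def Spec.ok (s : Spec) : Bool :=
  Nat.ble (Nat.succ s.k) 10 && (wordOk s.w && (wordOk s.word && Nat.ble (Nat.succ s.pt) D.n))

theorem Spec.isTau {s : Spec} (h : s.ok = true) :
    ∃ hp : s.pt < D.n, IsTau ⟨s.pt, hp⟩ (el s.word) := by
  simp only [Spec.ok, Bool.and_eq_true] at h
  exact ⟨Nat.le_of_ble_eq_true h.2.2.2,
    isTau_tauW (Nat.le_of_ble_eq_true h.1) h.2.1 rfl⟩

/-- a possible image of the generator `x` after the images in `pre` -/
noncomputable def cand (x : Nat) (pre : List (Nat × Spec)) (y : Nat) : Bool :=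
  List.rec (motive := fun _ => Bool) true
    (fun it _ ih =>
      (bif Nat.beq (D.run [x] (gp it.1)) (gp it.1) then
        Nat.beq (D.run it.2.word y) y && !(Nat.beq y it.2.pt)
      else !(Nat.beq (D.run it.2.word y) y)) && ih) pre

theorem cand_spec {x : Nat} {y : Nat} : ∀ {pre : List (Nat × Spec)},
    cand x pre y = true ↔ ∀ it ∈ pre, (bif Nat.beq (D.run [x] (gp it.1)) (gp it.1) then
        Nat.beq (D.run it.2.word y) y && !(Nat.beq y it.2.pt)
      else !(Nat.beq (D.run it.2.word y) y)) = true
  | [] => by simp [cand]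
  | it :: pre => by
    rw [List.forall_mem_cons, ← cand_spec (pre := pre), ← Bool.and_eq_true]
    rfl

/-- data of one step -/
structure Node where
  /-- the images fixed so far -/
  pre : List (Nat × Spec)
  /-- the next generator -/
  x : Nat
  /-- elements fixing the prefix -/
  gens : List Spec
  /-- orbit representatives -/
  reps : List Spec

/-- the shape of a step is right -/
noncomputable def Node.shapeOk (N : Node) : Bool :=
  Nat.ble (Nat.succ N.x) 10 &&
    (N.pre.all (fun it => Nat.ble (Nat.succ it.1) 10 && (it.2.ok && !(Nat.beq (gp it.1) (gp N.x)))) &&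
      (N.gens.all (fun g => g.ok && N.pre.all (fun it => Nat.beq (D.run g.word it.2.pt) it.2.pt)) &&
        N.reps.all Spec.ok))

/-- point `y` is reached from a representative -/
noncomputable def Node.orbOk (N : Node) (info : Nat → Nat) (y : Nat) : Bool :=
  bif cand N.x N.pre y then
    (N.reps.any (fun r => Nat.beq r.pt y) ||
      forceNat (info y) fun i =>
      forceNat (bitField i 0 16) fun p =>
      forceNat (bitField i 16 5) fun g =>
        Nat.ble (Nat.succ p) D.n && (Nat.ble (Nat.succ (bitField (info p) 21 16)) (bitField i 21 16) &&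
          (Nat.ble (Nat.succ g) N.gens.length && (cand N.x N.pre p &&
            Nat.beq (D.run ((N.gens.getD g ⟨0, []⟩).word) p) y))))
  else true

theorem Node.orbit (N : Node) (info : Nat → Nat) (hs : N.shapeOk = true)
    (hok : ∀ y, y < D.n → N.orbOk info y = true) :
    ∀ (y : Fin D.n), cand N.x N.pre y = true → ∃ r ∈ N.reps, ∃ h : Fi23, ∃ hp : r.pt < D.n,
      (∀ it ∈ N.pre, Commute h (el it.2.word)) ∧ img h ⟨r.pt, hp⟩ = y := by
  simp only [Node.shapeOk, Bool.and_eq_true, List.all_eq_true] at hs
  obtain ⟨-, hpre, hgens, hreps⟩ := hs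
  have key : ∀ (m : Nat) (y : Fin D.n), bitField (info y) 21 16 = m → cand N.x N.pre y = true →
      ∃ r ∈ N.reps, ∃ h : Fi23, ∃ hp : r.pt < D.n,
        (∀ it ∈ N.pre, Commute h (el it.2.word)) ∧ img h ⟨r.pt, hp⟩ = y := by
    intro m
    induction m using Nat.strong_induction_on with
    | _ m IH =>
      intro y hm hy
      have h := hok y y.2
      simp only [Node.orbOk, forceNat_eq, hy, cond_true, Bool.or_eq_true, Bool.and_eq_true,
        List.any_eq_true] at h
      rcases h with ⟨r, hr, he⟩ | ⟨hp, hrank, hg, hcp, hrun⟩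
      · obtain ⟨hp', -⟩ := Spec.isTau (hreps r hr)
        exact ⟨r, hr, 1, hp', fun it _ => Commute.one_left _,
          by rw [img_one]; exact Fin.ext (Nat.eq_of_beq_eq_true he)⟩
      · set p := bitField (info y) 0 16
        set g := bitField (info y) 16 5
        have hp' : p < D.n := Nat.le_of_ble_eq_true hp
        have hg' : g < N.gens.length := Nat.le_of_ble_eq_true hg
        rw [List.getD_eq_getElem _ _ hg'] at hrun
        obtain ⟨r, hr, h0, hrp, hc, he⟩ :=
          IH (bitField (info p) 21 16) (hm ▸ Nat.le_of_ble_eq_true hrank) ⟨p, hp'⟩ rfl hcp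
        obtain ⟨hgok, hgfix⟩ := hgens _ (List.getElem_mem hg')
        have hw : wordOk (N.gens[g]).word = true := by
          simp only [Spec.ok, Bool.and_eq_true] at hgok
          exact hgok.2.2.1
        refine ⟨r, hr, el (N.gens[g]).word * h0, hrp, fun it hit => ?_, ?_⟩
        · obtain ⟨-, hitok, -⟩ := hpre it hit
          obtain ⟨hq, htau⟩ := Spec.isTau hitok
          refine Commute.mul_left (htau.comm_of_fix (Fin.ext ?_)) (hc it hit)
          rw [img_el hw]
          exact Nat.eq_of_beq_eq_true (hgfix it hit)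
        · rw [img_mul, he]
          exact Fin.ext (by rw [img_el hw]; exact Nat.eq_of_beq_eq_true hrun)
  exact fun y hy => key _ y rfl hy

/-- the images agree with the prefix, and generators go to transpositions -/
structure Good (φ : MulAut Fi23) (pre : List (Nat × Spec)) : Prop where
  tau : ∀ x, x < 10 → ∃ y, IsTau y (φ (Fi23H.val x))
  agree : ∀ it ∈ pre, φ (Fi23H.val it.1) = el it.2.word

/-- an inner twist of `φ` agrees with the prefix -/
def Reach (φ : MulAut Fi23) (pre : List (Nat × Spec)) : Prop :=
  ∃ u : Fi23, Good (MulAut.conj u * φ) pre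

theorem Node.step (N : Node) (info : Nat → Nat) (hs : N.shapeOk = true)
    (hok : ∀ y, y < D.n → N.orbOk info y = true) {φ : MulAut Fi23} (h : Reach φ N.pre) :
    ∃ r ∈ N.reps, Reach φ (N.pre ++ [(N.x, r)]) := by
  obtain ⟨u, hgood⟩ := h
  set ψ := MulAut.conj u * φ with hψ
  have hs' := hs
  simp only [Node.shapeOk, Bool.and_eq_true, List.all_eq_true] at hs'
  obtain ⟨hx, hpre, -, hreps⟩ := hs'
  have hx' : N.x < 10 := Nat.le_of_ble_eq_true hx
  obtain ⟨y, hy⟩ := hgood.tau N.x hx'
  have hcand : cand N.x N.pre y = true := by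
    rw [cand_spec]
    intro it hit
    obtain ⟨hlt, hitok, hne⟩ := hpre it hit
    have hlt' : it.1 < 10 := Nat.le_of_ble_eq_true hlt
    obtain ⟨hq, htau⟩ := Spec.isTau hitok
    have hw : wordOk it.2.word = true := by
      simp only [Spec.ok, Bool.and_eq_true] at hitok
      exact hitok.2.2.1
    have hag := hgood.agree it hit
    have e1 : D.run it.2.word y = y ↔ Commute (Fi23H.val it.1) (Fi23H.val N.x) := by
      rw [← img_el hw, ← Fin.ext_iff, hy.fix_iff, ← hag]
      exact ⟨fun hc => by simpa using hc.map ψ.symm.toMonoidHom, fun hc => hc.map ψ.toMonoidHom⟩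
    have e2 : D.run [N.x] (gp it.1) = gp it.1 ↔ Commute (Fi23H.val it.1) (Fi23H.val N.x) := by
      have hw1 : wordOk [N.x] = true := by simp [wordOk, Nat.ble_eq.mpr hx']
      rw [← img_el hw1 ⟨gp it.1, gp_lt _⟩, el_single]
      refine Iff.trans ?_ ((isTau_gen hlt').fix_iff.trans ⟨Commute.symm, Commute.symm⟩)
      exact ⟨fun e => Fin.ext e, fun e => congrArg Fin.val e⟩
    cases hb : Nat.beq (D.run [N.x] (gp it.1)) (gp it.1) with
    | true =>
      have hc := e2.1 (Nat.eq_of_beq_eq_true hb)
      have hyne : (y : Nat) ≠ it.2.pt := by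
        intro e
        have h1 : ψ (Fi23H.val N.x) = ψ (Fi23H.val it.1) := by
          rw [hag]
          exact hy.unique ((Fin.ext e : y = ⟨it.2.pt, hq⟩) ▸ htau)
        have h2 := (isTau_gen hx').inj (ψ.injective h1 ▸ isTau_gen hlt')
        have h3 : gp it.1 = gp N.x := (congrArg Fin.val h2).symm
        rw [h3] at hne
        simp at hne
      simp only [cond_true, Bool.and_eq_true, Bool.not_eq_true']
      exact ⟨by rw [e1.2 hc]; simp, Bool.eq_false_iff.2 fun e => hyne (Nat.eq_of_beq_eq_true e)⟩
    | false =>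
      have hc : ¬ Commute (Fi23H.val it.1) (Fi23H.val N.x) := fun hc => by
        rw [e2.2 hc] at hb
        simp at hb
      simp only [cond_false, Bool.not_eq_true']
      exact Bool.eq_false_iff.2 fun e => hc (e1.1 (Nat.eq_of_beq_eq_true e))
  obtain ⟨r, hr, h0, hrp, hc, he⟩ := N.orbit info hs hok y hcand
  refine ⟨r, hr, h0⁻¹ * u, ?_, ?_⟩
  · intro x hx
    obtain ⟨z, hz⟩ := hgood.tau x hx
    refine ⟨img h0⁻¹ z, ?_⟩
    have h1 := hz.move h0⁻¹
    simpa [hψ, mul_assoc] using h1
  · intro it hit
    rcases List.mem_append.1 hit with hit | hit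
    · have h1 := hgood.agree it hit
      rw [hψ, MulAut.mul_apply, MulAut.conj_apply] at h1
      rw [map_mul, mul_assoc, MulAut.mul_apply, MulAut.mul_apply, MulAut.conj_apply u, h1,
        MulAut.conj_apply, inv_inv, (hc it hit).inv_left.eq]
      group
    · rw [List.mem_singleton.1 hit]
      obtain ⟨hq, htau⟩ := Spec.isTau (hreps r hr)
      have h1 := hy.move h0⁻¹
      rw [← he, img_inv] at h1
      have h2 := h1.unique htau
      rw [hψ, MulAut.mul_apply, MulAut.conj_apply] at h2
      show (MulAut.conj (h0⁻¹ * u) * φ) (Fi23H.val N.x) = el r.word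
      rw [map_mul, mul_assoc, MulAut.mul_apply, MulAut.mul_apply, MulAut.conj_apply u,
        MulAut.conj_apply, ← h2]

end Cfsg.Agent.H65.Fi23Out
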